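import Mathlib
import Groth.Agent.Lib.Helper5.Euler.AffLocal
import Groth.Agent.Lib.Helper5.Perf.FpFlat

/-!
# Local constancy of the fibre homology of a short complex with flat cokernels (helper5)
-/
set_option autoImplicit false
set_option linter.unusedSectionVars false
set_option linter.unusedVariables false
set_option linter.style.haveILetI false
universe u
open CategoryTheory CategoryTheory.Limits AlgebraicGeometry Opposite TopologicalSpace Topology

namespace Groth.Agent.Lib.Helper5.CBC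

open Groth.Agent.Helper1.FlatCxL Groth.Agent.Lib.Helper5.RingSemi
  Groth.Agent.Lib.Helper5.AffLocal Groth.Agent.Lib.Helper5.SpecGamma
  Groth.Agent.Lib.Helper5.FpFlat Groth.Agent.Lib.Helper5.FtFp

section Ring

variable {A : Type u} [CommRing A]

theorem eventually_fibreRank_eq (Q : Type u) [AddCommGroup Q] [Module A Q]
    [Module.FinitePresentation A Q] [Module.Flat A Q] (x₀ : PrimeSpectrum A) :
    ∀ᶠ x in 𝓝 x₀, fibreRank Q x = fibreRank Q x₀ := by
  have hlc : IsLocallyConstant (fibreRank (A := A) Q) := by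
    have h := Module.isLocallyConstant_rankAtStalk (R := A) (M := Q)
    have heq : fibreRank (A := A) Q = Module.rankAtStalk (R := A) Q := by
      funext x
      exact (Module.rankAtStalk_eq x).symm
    rw [heq]
    exact h
  exact hlc.eventually_eq x₀

theorem rH_eventually_eq (S : ShortComplex (ModuleCat.{u} A)) [Module.Finite A S.X₂]
    [Module.Finite A S.X₃] [Module.Free A S.X₃]
    [Module.FinitePresentation A (S.X₂ ⧸ LinearMap.range S.f.hom)]
    [Module.Flat A (S.X₂ ⧸ LinearMap.range S.f.hom)]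
    [Module.FinitePresentation A (S.X₃ ⧸ LinearMap.range S.g.hom)]
    [Module.Flat A (S.X₃ ⧸ LinearMap.range S.g.hom)] (x₀ : PrimeSpectrum A) :
    ∀ᶠ x in 𝓝 x₀, ∀ (κ κ₀ : Type u) [Field κ] [Field κ₀] [Algebra A κ] [Algebra A κ₀],
      kerPt (A := A) κ = x → kerPt (A := A) κ₀ = x₀ → rH κ S = rH κ₀ S := by
  have ev1 := eventually_fibreRank_eq (S.X₂ ⧸ LinearMap.range S.f.hom) x₀
  have ev2 := eventually_fibreRank_eq (S.X₃ ⧸ LinearMap.range S.g.hom) x₀
  filter_upwards [ev1, ev2] with x h1 h2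
  intro κ κ₀ _ _ _ _ hx hx₀
  have k := rH_add κ S
  have k₀ := rH_add κ₀ S
  rw [hx] at k
  rw [hx₀] at k₀
  have c : ∀ y : PrimeSpectrum A, fibreRank S.X₃ y = Module.finrank A S.X₃ := fun y => by
    haveI : Nontrivial A := y.nontrivial
    unfold fibreRank
    exact Module.finrank_baseChange
  rw [c] at k k₀
  omega

theorem rH'_eventually_eq (S : ShortComplex (ModuleCat.{u} A)) [Module.Finite A S.X₂]
    [Module.Finite A S.X₃] [Module.Free A S.X₃]
    [Module.FinitePresentation A (S.X₂ ⧸ LinearMap.range S.f.hom)]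
    [Module.Flat A (S.X₂ ⧸ LinearMap.range S.f.hom)]
    [Module.FinitePresentation A (S.X₃ ⧸ LinearMap.range S.g.hom)]
    [Module.Flat A (S.X₃ ⧸ LinearMap.range S.g.hom)] (x₀ : PrimeSpectrum A) :
    ∀ᶠ x in 𝓝 x₀, ∀ (κ κ₀ : Type u) [CommRing κ] [CommRing κ₀] (_ : IsField κ) (_ : IsField κ₀)
      [Algebra A κ] [Algebra A κ₀],
      RingHom.ker (algebraMap A κ) = x.asIdeal → RingHom.ker (algebraMap A κ₀) = x₀.asIdeal →
        rH' κ S = rH' κ₀ S := by
  filter_upwards [rH_eventually_eq S x₀] with x hx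
  intro κ κ₀ _ _ hκ hκ₀ a a₀ hk hk₀
  letI : Field κ := hκ.toField
  letI : Field κ₀ := hκ₀.toField
  letI : Algebra A κ := a
  letI : Algebra A κ₀ := a₀
  exact hx κ κ₀ (PrimeSpectrum.ext hk) (PrimeSpectrum.ext hk₀)

end Ring

variable {Z : Scheme.{u}}

/-- the finite free module of rank `n` -/
noncomputable abbrev Fr (R : CommRingCat.{u}) (n : ℕ) : ModuleCat.{u} R := ModuleCat.of R (ULift.{u} (Fin n) →₀ R)

/-- a short complex of finite locally free modules is, near a point, the tilde of a short complex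
of standard finite free modules over an affine open -/
theorem exists_affine_model' (S : ShortComplex Z.Modules) (h₁ : FlatMod.IsFinLocFree S.X₁)
    (h₂ : FlatMod.IsFinLocFree S.X₂) (h₃ : FlatMod.IsFinLocFree S.X₃) (z : Z) :
    ∃ (U : Z.Opens) (hU : IsAffineOpen U), z ∈ U ∧
      ∃ (n₁ n₂ n₃ : ℕ) (f' : Fr Γ(Z, U) n₁ ⟶ Fr Γ(Z, U) n₂) (g' : Fr Γ(Z, U) n₂ ⟶ Fr Γ(Z, U) n₃)
        (hfg : f' ≫ g' = 0),
        Nonempty (S.map (Scheme.Modules.restrictFunctor hU.fromSpec) ≅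
          (ShortComplex.mk f' g' hfg).map (tilde.functor Γ(Z, U))) := by
  let N : Fin 3 → Z.Modules := ![S.X₁, S.X₂, S.X₃]
  have hN : ∀ i, FlatMod.IsFinLocFree (N i) := by
    intro i
    fin_cases i
    · exact h₁
    · exact h₂
    · exact h₃
  obtain ⟨U, hU, hzU, hfree⟩ := exists_affine_free Finset.univ N hN z
  obtain ⟨n₁, ⟨e₁⟩⟩ := hfree 0 (Finset.mem_univ _)
  obtain ⟨n₂, ⟨e₂⟩⟩ := hfree 1 (Finset.mem_univ _)
  obtain ⟨n₃, ⟨e₃⟩⟩ := hfree 2 (Finset.mem_univ _)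
  let R : CommRingCat.{u} := Γ(Z, U)
  let r := Scheme.Modules.restrictFunctor hU.fromSpec
  let ε₁ : r.obj S.X₁ ≅ (tilde.functor R).obj (Fr R n₁) := e₁ ≪≫ freeTildeIso R n₁
  let ε₂ : r.obj S.X₂ ≅ (tilde.functor R).obj (Fr R n₂) := e₂ ≪≫ freeTildeIso R n₂
  let ε₃ : r.obj S.X₃ ≅ (tilde.functor R).obj (Fr R n₃) := e₃ ≪≫ freeTildeIso R n₃
  let f' : Fr R n₁ ⟶ Fr R n₂ := (tilde.functor R).preimage (ε₁.inv ≫ r.map S.f ≫ ε₂.hom)
  let g' : Fr R n₂ ⟶ Fr R n₃ := (tilde.functor R).preimage (ε₂.inv ≫ r.map S.g ≫ ε₃.hom)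
  have hfg : f' ≫ g' = 0 := by
    apply (tilde.functor R).map_injective
    rw [Functor.map_comp, Functor.map_preimage, Functor.map_preimage, Functor.map_zero]
    simp only [Category.assoc, Iso.hom_inv_id_assoc]
    rw [← r.map_comp_assoc, S.zero, r.map_zero, Limits.zero_comp, Limits.comp_zero]
  refine ⟨U, hU, hzU, n₁, n₂, n₃, f', g', hfg, ⟨?_⟩⟩
  refine ShortComplex.isoMk ε₁ ε₂ ε₃ ?_ ?_
  · change ε₁.hom ≫ (tilde.functor R).map f' = r.map S.f ≫ ε₂.hom
    rw [Functor.map_preimage, Iso.hom_inv_id_assoc]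
  · change ε₂.hom ≫ (tilde.functor R).map g' = r.map S.g ≫ ε₃.hom
    rw [Functor.map_preimage, Iso.hom_inv_id_assoc]

/-- finite presentation of the quotient by the range of a map between finite free modules -/
theorem finitePresentation_quot_range (R : CommRingCat.{u}) (a b : ℕ) (φ : Fr R a ⟶ Fr R b) :
    Module.FinitePresentation R ((Fr R b) ⧸ LinearMap.range φ.hom) := by
  refine Module.finitePresentation_of_surjective (LinearMap.range φ.hom).mkQ
    (Submodule.mkQ_surjective _) ?_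
  rw [Submodule.ker_mkQ, LinearMap.range_eq_map]
  exact Submodule.FG.map _ (Module.Finite.fg_top)

/-- flatness of the quotient by the range, from flatness of the restricted cokernel sheaf -/
theorem flat_quot_range_of_flatMod {M P : Z.Modules} (t : M ⟶ P) (hfl : FlatMod.IsFlat (cokernel t))
    {R : CommRingCat.{u}} (ι : Spec R ⟶ Z) [IsOpenImmersion ι] (a b : ℕ) (φ : Fr R a ⟶ Fr R b)
    (εa : (Scheme.Modules.restrictFunctor ι).obj M ≅ (tilde.functor R).obj (Fr R a))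
    (εb : (Scheme.Modules.restrictFunctor ι).obj P ≅ (tilde.functor R).obj (Fr R b))
    (comm : (Scheme.Modules.restrictFunctor ι).map t ≫ εb.hom = εa.hom ≫ (tilde.functor R).map φ) :
    Module.Flat R ((Fr R b) ⧸ LinearMap.range φ.hom) := by
  let r := Scheme.Modules.restrictFunctor ι
  have e : r.obj (cokernel t) ≅ (tilde.functor R).obj (cokernel φ) :=
    PreservesCokernel.iso r t ≪≫ cokernel.mapIso (r.map t) ((tilde.functor R).map φ) εa εb comm ≪≫
      (PreservesCokernel.iso (tilde.functor R) φ).symm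
  have h1 : FlatMod.IsFlat ((tilde.functor R).obj (cokernel φ)) :=
    flatMod_of_iso e (flatMod_restrict ι _ hfl)
  haveI : Module.Flat R ↑(cokernel φ) := flat_of_flatMod_tilde R _ h1
  exact Module.Flat.of_linearEquiv (ModuleCat.cokernelIsoRangeQuotient φ).symm.toLinearEquiv

/-- **local constancy** of the fibre homology of a short complex of finite locally free modules
with flat cokernels, over all field-valued points -/
theorem exists_nhd_hFib_eq (S : ShortComplex Z.Modules) (h₁ : FlatMod.IsFinLocFree S.X₁)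
    (h₂ : FlatMod.IsFinLocFree S.X₂) (h₃ : FlatMod.IsFinLocFree S.X₃)
    (hf : FlatMod.IsFlat (cokernel S.f)) (hg : FlatMod.IsFlat (cokernel S.g))
    (L₀ : CommRingCat.{u}) (hL₀ : IsField L₀) (t₀ : Spec L₀ ⟶ Z) :
    ∃ W : Z.Opens, Set.range t₀.base ⊆ W ∧
      ∀ (L : CommRingCat.{u}) (_ : IsField L) (t : Spec L ⟶ Z), Set.range t.base ⊆ W →
        hFib L S t = hFib L₀ S t₀ := by
  obtain ⟨p₀⟩ := nonempty_spec hL₀
  haveI := subsingleton_spec hL₀
  obtain ⟨U, hU, hzU, n₁, n₂, n₃, f', g', hfg, ⟨σ⟩⟩ :=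
    exists_affine_model' S h₁ h₂ h₃ (t₀.base p₀)
  let S' : ShortComplex (ModuleCat.{u} Γ(Z, U)) := ShortComplex.mk f' g' hfg
  haveI : Module.Finite Γ(Z, U) S'.X₂ :=
    inferInstanceAs (Module.Finite Γ(Z, U) (ULift.{u} (Fin n₂) →₀ Γ(Z, U)))
  haveI : Module.Finite Γ(Z, U) S'.X₃ :=
    inferInstanceAs (Module.Finite Γ(Z, U) (ULift.{u} (Fin n₃) →₀ Γ(Z, U)))
  haveI : Module.Free Γ(Z, U) S'.X₃ :=
    inferInstanceAs (Module.Free Γ(Z, U) (ULift.{u} (Fin n₃) →₀ Γ(Z, U)))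
  haveI : Module.FinitePresentation Γ(Z, U) (S'.X₂ ⧸ LinearMap.range S'.f.hom) :=
    finitePresentation_quot_range Γ(Z, U) n₁ n₂ f'
  haveI : Module.FinitePresentation Γ(Z, U) (S'.X₃ ⧸ LinearMap.range S'.g.hom) :=
    finitePresentation_quot_range Γ(Z, U) n₂ n₃ g'
  haveI : Module.Flat Γ(Z, U) (S'.X₂ ⧸ LinearMap.range S'.f.hom) :=
    flat_quot_range_of_flatMod S.f hf hU.fromSpec n₁ n₂ f'
      ((ShortComplex.π₁).mapIso σ) ((ShortComplex.π₂).mapIso σ) σ.hom.comm₁₂.symm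
  haveI : Module.Flat Γ(Z, U) (S'.X₃ ⧸ LinearMap.range S'.g.hom) :=
    flat_quot_range_of_flatMod S.g hg hU.fromSpec n₂ n₃ g'
      ((ShortComplex.π₂).mapIso σ) ((ShortComplex.π₃).mapIso σ) σ.hom.comm₂₃.symm
  have hr₀ : Set.range t₀.base ⊆ U := by
    rintro _ ⟨p, rfl⟩
    rw [Subsingleton.elim p p₀]
    exact hzU
  obtain ⟨ψ₀, hψ₀⟩ := exists_factor hU L₀ t₀ hr₀
  let x₀ : PrimeSpectrum Γ(Z, U) := (Spec.map ψ₀).base p₀
  obtain ⟨D, hD, hDo, hx₀D⟩ := eventually_nhds_iff.1 (rH'_eventually_eq S' x₀)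
  refine ⟨hU.fromSpec ''ᵁ ⟨D, hDo⟩, ?_, ?_⟩
  · rintro _ ⟨p, rfl⟩
    rw [Subsingleton.elim p p₀]
    refine ⟨x₀, hx₀D, ?_⟩
    rw [← hψ₀]
    rfl
  · intro L hL t ht
    obtain ⟨p⟩ := nonempty_spec hL
    haveI := subsingleton_spec hL
    have hr : Set.range t.base ⊆ U := by
      rintro _ ⟨q, rfl⟩
      obtain ⟨y, _, hy⟩ := ht ⟨q, rfl⟩
      rw [← hy]
      have : hU.fromSpec.base y ∈ Set.range hU.fromSpec.base := ⟨y, rfl⟩
      rw [hU.range_fromSpec] at this
      exact this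
    obtain ⟨ψ, hψ⟩ := exists_factor hU L t hr
    have hxD : (Spec.map ψ).base p ∈ D := by
      obtain ⟨y, hyD, hy⟩ := ht ⟨p, rfl⟩
      have h2 : hU.fromSpec.base y = hU.fromSpec.base ((Spec.map ψ).base p) := by
        refine Eq.trans hy ?_
        rw [← hψ]
        rfl
      have hinj : Function.Injective hU.fromSpec.base :=
        (Scheme.Hom.isOpenEmbedding hU.fromSpec).injective
      rw [← hinj h2]
      exact hyD
    rw [hFib_eq_rH' L hL S hU.fromSpec S' σ ψ t hψ,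
      hFib_eq_rH' L₀ hL₀ S hU.fromSpec S' σ ψ₀ t₀ hψ₀]
    exact @hD _ hxD L L₀ _ _ hL hL₀ ψ.hom.toAlgebra ψ₀.hom.toAlgebra
      (asIdeal_map_eq_ker hL ψ p).symm (asIdeal_map_eq_ker hL₀ ψ₀ p₀).symm

end Groth.Agent.Lib.Helper5.CBC
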