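import Mathlib
import Groth.Prelude.Def_PerfD
import Groth.Agent.Lib.Helper5.CBC.HFibConst
import Groth.Agent.Lib.Helper5.Euler.BettiSemi
import Groth.Agent.Lib.Helper5.Perf.KerFLF
import Groth.Agent.Lib.Helper5.Perf.FlatPC
import Groth.Agent.Lib.Helper5.Stalk.RpushSupp

/-!
# Finite local freeness of `H^p` and local constancy of the Betti numbers from flatness of the
cokernels of local approximations (helper5)
-/
set_option autoImplicit false
set_option linter.unusedSectionVars false
set_option linter.unusedVariables false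
set_option linter.style.haveILetI false
universe u
open CategoryTheory CategoryTheory.Limits AlgebraicGeometry Opposite TopologicalSpace
attribute [local instance] HasDerivedCategory.standard

namespace Groth.Agent.Lib.Helper5.CBC

open Groth.Agent.Lib.Helper5.PCApprox Groth.Agent.Lib.Helper5.KFlatSiteQ
  Groth.Agent.Lib.Helper5.AffLocal Groth.Agent.Lib.Helper5.SpecGamma
  Groth.Agent.Lib.Helper5.FpFlat Groth.Agent.Lib.Helper5.KerFLF Groth.Agent.Lib.Helper5.FlatPC
  Groth.Agent.Lead.FLF Groth.Agent.Lib.Helper5.BettiSemi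

section Abelian

variable {A : Type*} [Category A] [Abelian A] (P : CochainComplex A ℤ) (j k : ℤ)

/-- `opcycles^j ⟶ im(d^j)` -/
noncomputable def toIm : P.opcycles j ⟶ kernel (cokernel.π (P.d j k)) :=
  kernel.lift _ (P.fromOpcycles j k) (by
    rw [← cancel_epi (P.pOpcycles j), comp_zero, P.p_fromOpcycles_assoc, cokernel.condition])

lemma toIm_ι : toIm P j k ≫ kernel.ι (cokernel.π (P.d j k)) = P.fromOpcycles j k :=
  kernel.lift_ι _ _ _

instance epi_toIm : Epi (toIm P j k) := by
  have h : P.pOpcycles j ≫ toIm P j k = Abelian.factorThruImage (P.d j k) := by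
    rw [← cancel_mono (Abelian.image.ι (P.d j k)), Category.assoc]
    erw [toIm_ι]
    rw [P.p_fromOpcycles, Abelian.image.fac]
  exact epi_of_epi_fac h

/-- `H^j ≅ ker(opcycles^j ⟶ im(d^j))` -/
noncomputable def homologyIsoKernelToIm (hjk : j + 1 = k) : P.homology j ≅ kernel (toIm P j k) :=
  (IsLimit.conePointUniqueUpToIso (P.homologyIsKernel j k (by simp [← hjk]))
    (kernelIsKernel (P.fromOpcycles j k))) ≪≫ kernelIsoOfEq (toIm_ι P j k).symm ≪≫
    kernelCompMono (toIm P j k) (kernel.ι (cokernel.π (P.d j k)))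

/-- `coker(d^{i}) ≅ opcycles^j` -/
noncomputable def cokernelIsoOpcycles (i : ℤ) (hij : i + 1 = j) :
    cokernel (P.d i j) ≅ P.opcycles j :=
  (cokernelIsCokernel (P.d i j)).coconePointUniqueUpToIso
    (P.opcyclesIsCokernel i j (by simp [← hij]))

end Abelian

variable {V : Scheme.{u}}

/-- finite local freeness of `H^j(P)` from that of the two neighbouring cokernels -/
theorem isFinLocFree_homology (P : CochainComplex V.Modules ℤ) (i j k : ℤ) (hij : i + 1 = j)
    (hjk : j + 1 = k) (hPk : FlatMod.IsFinLocFree (P.X k))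
    (hW : FlatMod.IsFinLocFree (cokernel (P.d i j)))
    (hC : FlatMod.IsFinLocFree (cokernel (P.d j k))) : FlatMod.IsFinLocFree (P.homology j) := by
  have hN : FlatMod.IsFinLocFree (kernel (cokernel.π (P.d j k))) :=
    isFinLocFree_kernel (cokernel.π (P.d j k)) hPk hC
  have hO : FlatMod.IsFinLocFree (P.opcycles j) :=
    isFinLocFree_of_iso (cokernelIsoOpcycles P j i hij) hW
  have hK := isFinLocFree_kernel (toIm P j k) hO hN
  exact isFinLocFree_of_iso (homologyIsoKernelToIm P j k hjk).symm hK

/-- a flat cokernel of a map between finite locally free modules is finite locally free -/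
theorem isFinLocFree_cokernel_of_flat {M N : V.Modules} (t : M ⟶ N)
    (hM : FlatMod.IsFinLocFree M) (hN : FlatMod.IsFinLocFree N)
    (hfl : FlatMod.IsFlat (cokernel t)) : FlatMod.IsFinLocFree (cokernel t) :=
  isFinLocFree_of_hasCokerCharts _ (hasCokerCharts_of_coker_flf _ t hM hN (Iso.refl _)) hfl

variable {X : Scheme.{u}}

/-- **the local-to-global step** -/
theorem main_of_local_flat [∀ x : X, DCoh.HasLpull (X.fromSpecResidueField x)] (E : DCoh.D X)
    (Pc : CochainComplex X.Modules ℤ) (hPc : Cell X.sheaf Pc) (eP : DCoh.toD X Pc ≅ E) (p : ℤ)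
    (h : ∀ x : X, ∃ V : X.Opens, x ∈ V ∧ ∃ (P : CochainComplex (V : Scheme.{u}).Modules ℤ)
      (α : DerivedCategory.Q.obj P ⟶ DerivedCategory.Q.obj ((DCoh.restrictCx V).obj Pc)),
      DCoh.IsStrictlyPerfect P ∧ IsApprox (p - 1) α ∧
      FlatMod.IsFlat (cokernel (P.d (p - 1) p)) ∧ FlatMod.IsFlat (cokernel (P.d p (p + 1)))) :
    FlatMod.IsFinLocFree (DCoh.HD E p) ∧
      IsLocallyConstant (fun x : X => PerfD.betti E x p) := by
  constructor
  · apply isFinLocFree_of_charts
    intro x
    obtain ⟨V, hxV, P, α, hP, hα, hW, hC⟩ := h x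
    refine ⟨V, V.ι, inferInstance, ?_, ?_⟩
    · rw [Scheme.Opens.opensRange_ι]
      exact hxV
    · haveI := hα.1 p (by omega)
      let e : (DCoh.HD E p).restrict V.ι ≅ P.homology p :=
        Groth.Agent.Lib.Helper5.RpushSupp.hdRestrictDIso E V p ≪≫
          (DerivedCategory.homologyFunctor _ p).mapIso
            ((DCoh.restrictD V.ι).mapIso eP.symm ≪≫
              (Scheme.Modules.restrictFunctor V.ι).mapDerivedCategoryFactors.app Pc) ≪≫
          (asIso ((DerivedCategory.homologyFunctor _ p).map α)).symm ≪≫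
          (DerivedCategory.homologyFunctorFactors _ p).app P
      have hW' := isFinLocFree_cokernel_of_flat (P.d (p - 1) p) (hP.2 _) (hP.2 _) hW
      have hC' := isFinLocFree_cokernel_of_flat (P.d p (p + 1)) (hP.2 _) (hP.2 _) hC
      exact isFinLocFree_of_iso e.symm
        (isFinLocFree_homology P (p - 1) p (p + 1) (by omega) rfl (hP.2 _) hW' hC')
  · rw [IsLocallyConstant.iff_exists_open]
    intro y₀
    obtain ⟨V, hy₀V, E₁, α, hE₁, hα, hW, hC⟩ := h y₀
    have hrange : ∀ y : X, y ∈ V →
        Set.range (X.fromSpecResidueField y).base ⊆ Set.range V.ι.base := by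
      intro y hy
      rw [Scheme.range_fromSpecResidueField, Scheme.Opens.range_ι]
      exact Set.singleton_subset_iff.2 hy
    let j : ∀ y : X, y ∈ V → (Spec (X.residueField y) ⟶ V) := fun y hy =>
      IsOpenImmersion.lift V.ι (X.fromSpecResidueField y) (hrange y hy)
    have hj : ∀ (y : X) (hy : y ∈ V), j y hy ≫ V.ι = X.fromSpecResidueField y := fun y hy =>
      IsOpenImmersion.lift_fac _ _ _
    have hjpt : ∀ (y : X) (hy : y ∈ V) (q : Spec (X.residueField y)),
        V.ι.base ((j y hy).base q) = y := by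
      intro y hy q
      have h1 : V.ι.base ((j y hy).base q) = (X.fromSpecResidueField y).base q := by
        rw [← hj y hy]
        rfl
      rw [h1]
      have h2 : (X.fromSpecResidueField y).base q ∈ Set.range (X.fromSpecResidueField y).base :=
        ⟨q, rfl⟩
      rw [Scheme.range_fromSpecResidueField] at h2
      exact h2
    have hinj : Function.Injective V.ι.base := (Scheme.Hom.isOpenEmbedding V.ι).injective
    obtain ⟨W, hW₀, hWeq⟩ := exists_nhd_hFib_eq (E₁.sc' (p - 1) p (p + 1)) (hE₁.2 _) (hE₁.2 _)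
      (hE₁.2 _) hW hC (X.residueField y₀) (Field.toIsField _) (j y₀ hy₀V)
    have key : ∀ (y : X) (hy : y ∈ V), PerfD.betti E y p =
        hFib (X.residueField y) (E₁.sc' (p - 1) p (p + 1)) (j y hy) := fun y hy =>
      betti_eq_hFib E Pc hPc eP V E₁ hE₁ α p hα.1 hα.2 y (j y hy) (hj y hy)
    refine ⟨(V.ι ''ᵁ W : X.Opens), (V.ι ''ᵁ W).isOpen, ?_, ?_⟩
    · obtain ⟨q⟩ : Nonempty (Spec (X.residueField y₀)) :=
        nonempty_spec (K := X.residueField y₀) (Field.toIsField _)
      exact ⟨(j y₀ hy₀V).base q, hW₀ ⟨q, rfl⟩, hjpt y₀ hy₀V q⟩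
    · rintro _ ⟨w, hwW, rfl⟩
      have hyV : V.ι.base w ∈ V := w.2
      change PerfD.betti E (V.ι.base w) p = PerfD.betti E y₀ p
      rw [key _ hyV, key y₀ hy₀V]
      refine hWeq _ (Field.toIsField _) (j _ hyV) ?_
      rintro _ ⟨q, rfl⟩
      have : (j _ hyV).base q = w := hinj (hjpt _ hyV q)
      rw [this]
      exact hwW

end Groth.Agent.Lib.Helper5.CBC
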