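import Mathlib

/-!
# Cokernels of the differentials of a mapping cone `cone(K ⟶ P)` with `K` bounded above (helper5)
-/
set_option autoImplicit false
set_option linter.unusedSectionVars false
set_option linter.unusedVariables false
set_option linter.style.haveILetI false
universe u
open CategoryTheory CategoryTheory.Limits CochainComplex HomComplex

namespace Groth.Agent.Lib.Helper5.CBC

variable {A : Type*} [Category A] [Abelian A] {K P : CochainComplex A ℤ} (g : K ⟶ P)

lemma snd_inr_of_isZero (i : ℤ) (h : IsZero (K.X (i + 1))) :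
    (mappingCone.snd g).v i i (add_zero i) ≫ (mappingCone.inr g).f i = 𝟙 _ := by
  have h1 := mappingCone.id_X g i (i + 1) rfl
  have h2 : (mappingCone.fst g).1.v i (i + 1) rfl = 0 := h.eq_of_tgt _ _
  rw [h2, zero_comp, zero_add] at h1
  exact h1

lemma isIso_inr_f (i : ℤ) (h : IsZero (K.X (i + 1))) : IsIso ((mappingCone.inr g).f i) :=
  ⟨(mappingCone.snd g).v i i (add_zero i), mappingCone.inr_f_snd_v g i, snd_inr_of_isZero g i h⟩

lemma isZero_cone_X (i : ℤ) (h1 : IsZero (K.X (i + 1))) (h2 : IsZero (P.X i)) :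
    IsZero ((mappingCone g).X i) := by
  rw [IsZero.iff_id_eq_zero, ← snd_inr_of_isZero g i h1]
  have : (mappingCone.inr g).f i = 0 := h2.eq_of_src _ _
  rw [this, comp_zero]

/-- the cokernels in degrees `(p, p + 1)` agree when `K^{p+1} = K^{p+2} = 0` -/
noncomputable def cokerIsoHigh (p : ℤ) (h1 : IsZero (K.X (p + 1)))
    (h2 : IsZero (K.X (p + 1 + 1))) :
    cokernel (P.d p (p + 1)) ≅ cokernel ((mappingCone g).d p (p + 1)) :=
  haveI := isIso_inr_f g p h1
  haveI := isIso_inr_f g (p + 1) h2
  cokernel.mapIso _ _ (asIso ((mappingCone.inr g).f p)) (asIso ((mappingCone.inr g).f (p + 1)))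
    (mappingCone.inr_f_d g p (p + 1)).symm

lemma comp_cokernel_π_eq_zero (q p : ℤ) (hepi : Epi (K.d q p)) :
    g.f p ≫ cokernel.π (P.d q p) = 0 := by
  rw [← cancel_epi (K.d q p), comp_zero, ← Category.assoc, ← g.comm, Category.assoc,
    cokernel.condition, comp_zero]

lemma d_snd_π (q p : ℤ) (hqp : q + 1 = p) (h1 : IsZero (K.X (p + 1))) (hepi : Epi (K.d q p)) :
    (mappingCone g).d q p ≫ (mappingCone.snd g).v p p (add_zero p) ≫ cokernel.π (P.d q p) = 0 := by
  apply mappingCone.ext_from g p q hqp
  · rw [comp_zero, ← Category.assoc,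
      mappingCone.inl_v_d g p q (p + 1) (by omega) (by omega)]
    have hz : K.d p (p + 1) = 0 := h1.eq_of_tgt _ _
    rw [hz, zero_comp, sub_zero, Category.assoc, mappingCone.inr_f_snd_v_assoc]
    exact comp_cokernel_π_eq_zero g q p hepi
  · rw [comp_zero, mappingCone.inr_f_d_assoc, mappingCone.inr_f_snd_v_assoc,
      cokernel.condition]

/-- the cokernels in degrees `(p - 1, p)` agree when `K^{p+1} = 0` and `K^{p-1} ⟶ K^p` is an
epimorphism -/
noncomputable def cokerIsoLow (q p : ℤ) (hqp : q + 1 = p) (h1 : IsZero (K.X (p + 1)))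
    (hepi : Epi (K.d q p)) :
    cokernel (P.d q p) ≅ cokernel ((mappingCone g).d q p) where
  hom := cokernel.map _ _ ((mappingCone.inr g).f q) ((mappingCone.inr g).f p)
    (mappingCone.inr_f_d g q p).symm
  inv := cokernel.desc _ ((mappingCone.snd g).v p p (add_zero p) ≫ cokernel.π (P.d q p))
    (d_snd_π g q p hqp h1 hepi)
  hom_inv_id := by
    apply coequalizer.hom_ext
    rw [cokernel.π_desc_assoc, Category.assoc, cokernel.π_desc, mappingCone.inr_f_snd_v_assoc,
      Category.comp_id]
  inv_hom_id := by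
    apply coequalizer.hom_ext
    rw [cokernel.π_desc_assoc, Category.assoc, cokernel.π_desc, ← Category.assoc,
      snd_inr_of_isZero g p h1, Category.id_comp, Category.comp_id]

end Groth.Agent.Lib.Helper5.CBC
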