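import Mathlib
import Groth.Prelude.Def_DCoh4
import Groth.Agent.Lib.Helper5.Perf.PCApprox
import Groth.Agent.Lib.Helper5.RHomQC.PCLocal
import Groth.Agent.Lib.Helper5.KFlatSite2.BddCell

/-!
# A mapping-cone model of a complex approximated by a strictly perfect complex (helper5)

Given `α : Q P ⟶ B` in `D(O_V)` which is an isomorphism on `H^i` for `i > p - 1` and an
epimorphism on `H^{p-1}`, the object `B` is represented by the mapping cone of a chain map
`g : K ⟶ P` with `K` cellular (K-flat with flat terms), `K^j = 0` for `j > p` and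
`K^{p-1} ⟶ K^p` an epimorphism.
-/
set_option autoImplicit false
set_option linter.unusedSectionVars false
set_option linter.unusedVariables false
set_option linter.style.haveILetI false
universe u
open CategoryTheory CategoryTheory.Limits AlgebraicGeometry Pretriangulated
attribute [local instance] HasDerivedCategory.standard

namespace Groth.Agent.Lib.Helper5.CBC

open Groth.Agent.Lib.Helper5.PCApprox Groth.Agent.Lib.Helper5.RHomQC
  Groth.Agent.Lib.Helper5.KFlatSiteQ

theorem exists_cone_model {V : Scheme.{u}} (P : CochainComplex V.Modules ℤ) (B : DCoh.D V) (p : ℤ)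
    (α : DerivedCategory.Q.obj P ⟶ B) (hα : IsApprox (p - 1) α) :
    ∃ (K : CochainComplex V.Modules ℤ) (g : K ⟶ P), Cell V.sheaf K ∧
      (∀ j : ℤ, p < j → IsZero (K.X j)) ∧ Epi (K.d (p - 1) p) ∧
      Nonempty (DerivedCategory.Q.obj (CochainComplex.mappingCone g) ≅ B) := by
  obtain ⟨C, β, γ, hT⟩ := distinguished_cocone_triangle α
  have hC : ∀ i : ℤ, p - 1 ≤ i → IsZero (DCoh.HD C i) := fun i hi =>
    isZero_HD_cone_of_isApprox α β γ hT hα i hi
  haveI hCle : C.IsLE (p - 2) :=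
    (DerivedCategory.isLE_iff C (p - 2)).2 (fun i hi => hC i (by omega))
  haveI hC1 : (C⟦(-1 : ℤ)⟧).IsLE (p - 1) :=
    DerivedCategory.TStructure.t.isLE_shift C (p - 2) (-1) (p - 1) (by omega)
  obtain ⟨K₀, hK₀, ⟨e₀⟩⟩ := DerivedCategory.exists_iso_Q_obj_of_isLE (C⟦(-1 : ℤ)⟧) (p - 1)
  let T := Triangle.mk α β γ
  have hT' : T.invRotate ∈ distTriang (DCoh.D V) := inv_rot_of_distTriang _ hT
  let δ : DerivedCategory.Q.obj K₀ ⟶ DerivedCategory.Q.obj P := e₀.inv ≫ T.invRotate.mor₁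
  haveI := hK₀
  obtain ⟨K₁, hK₁, s, hs, g₁, fac⟩ := DerivedCategory.right_fac_of_isStrictlyLE δ (p - 1)
  haveI hsI : IsIso (DerivedCategory.Q.map s) := hs
  haveI hK₁I : K₁.IsStrictlyLE (p - 1) := hK₁
  obtain ⟨K, q, hcell, hq, hb⟩ : ∃ (K : CochainComplex V.Modules ℤ) (q : K ⟶ K₁),
      Cell V.sheaf K ∧ QuasiIso q ∧ ∀ j : ℤ, p - 1 + 1 < j → IsZero (K.X j) :=
    exists_bdd_cell_resolution V.sheaf K₁ (p - 1)
      (fun j hj => K₁.isZero_of_isStrictlyLE (p - 1) j hj)
  haveI : IsIso (DerivedCategory.Q.map q) := (DerivedCategory.isIso_Q_map_iff_quasiIso _ q).2 hq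
  let g : K ⟶ P := q ≫ g₁
  have hcone := DerivedCategory.mappingCone_triangle_distinguished g
  let eq : DerivedCategory.Q.obj K ≅ DerivedCategory.Q.obj K₁ := asIso (DerivedCategory.Q.map q)
  let es : DerivedCategory.Q.obj K₁ ≅ DerivedCategory.Q.obj K₀ := asIso (DerivedCategory.Q.map s)
  let e₁ : DerivedCategory.Q.obj K ≅ T.invRotate.obj₁ := eq ≪≫ es ≪≫ e₀.symm
  have hg₁ : DerivedCategory.Q.map g₁ = DerivedCategory.Q.map s ≫ δ := by
    rw [fac, IsIso.hom_inv_id_assoc]
  have he₁ : e₁.hom = DerivedCategory.Q.map q ≫ DerivedCategory.Q.map s ≫ e₀.inv := rfl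
  have hm₁ : (DerivedCategory.Q.mapTriangle.obj (CochainComplex.mappingCone.triangle g)).mor₁ =
      DerivedCategory.Q.map g := rfl
  have comm : (DerivedCategory.Q.mapTriangle.obj (CochainComplex.mappingCone.triangle g)).mor₁ ≫
      (Iso.refl (DerivedCategory.Q.obj P)).hom = e₁.hom ≫ T.invRotate.mor₁ := by
    rw [he₁, hm₁, Iso.refl_hom]
    erw [Category.comp_id]
    rw [Functor.map_comp, hg₁]
    simp only [δ]
    erw [Category.assoc, Category.assoc]
    rfl
  let eT := isoTriangleOfIso₁₂ _ _ hcone hT' e₁ (Iso.refl _) comm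
  have e₃ : DerivedCategory.Q.obj (CochainComplex.mappingCone g) ≅ B := Triangle.π₃.mapIso eT
  have hb' : ∀ j : ℤ, p < j → IsZero (K.X j) := fun j hj => hb j (by omega)
  refine ⟨K, g, hcell, hb', ?_, ⟨e₃⟩⟩
  haveI hC1' : DerivedCategory.TStructure.t.IsLE T.invRotate.obj₁ (p - 1) := hC1
  haveI hKle : (DerivedCategory.Q.obj K).IsLE (p - 1) :=
    DerivedCategory.TStructure.t.isLE_of_iso e₁.symm (p - 1)
  have hK' : K.IsLE (p - 1) := (DerivedCategory.isLE_Q_obj_iff K (p - 1)).1 hKle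
  have hex : K.ExactAt p := K.exactAt_of_isLE (p - 1) p (by omega)
  have hex' : (K.sc' (p - 1) p (p + 1)).Exact :=
    (K.exactAt_iff' (p - 1) p (p + 1) (by simp) (by simp)).1 hex
  exact hex'.epi_f ((hb' (p + 1) (by omega)).eq_of_tgt _ _)

end Groth.Agent.Lib.Helper5.CBC
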