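import Mathlib
import Groth.Prelude.Def_DCoh4
import Groth.Agent.Lib.Helper5.ExactPQ.CokerMain
import Groth.Agent.Lib.Helper5.CBC.ConeModel
import Groth.Agent.Lib.Helper5.CBC.CokerCmp
import Groth.Agent.Lib.Helper5.BC.LTenCongr
import Groth.Agent.Lib.Helper5.LTen.LTenAll

/-!
# Injectivity of `H^j(f ⊗^L F)` in terms of the cokernels of an approximating complex (helper5)
-/
set_option autoImplicit false
set_option linter.unusedSectionVars false
set_option linter.unusedVariables false
set_option linter.style.haveILetI false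
universe u
open CategoryTheory CategoryTheory.Limits AlgebraicGeometry Pretriangulated HomologicalComplex
attribute [local instance] HasDerivedCategory.standard

namespace Groth.Agent.Lib.Helper5.CBC

open Groth.Agent.Lib.Helper5.PCApprox Groth.Agent.Lib.Helper5.KFlatSiteQ
  Groth.Agent.Lib.Helper5.ExactPQ Groth.Agent.Lib.Helper5.TensorSheaf

section Site

variable {C : Type u} [SmallCategory C] {J : GrothendieckTopology C} (O : Sheaf J CommRingCat.{u})
  (E : CochainComplex (ModSite.Mod O) ℤ) [ModSite.HasLTensorCx E]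

/-- for a K-flat complex `E` with flat terms and a monomorphism `f`, `H^{q+1}(f ⊗^L E)` is a
monomorphism iff `f ⊗ coker(E^q ⟶ E^{q+1})` is -/
theorem mono_iff_cokernel (hK : ModSite.IsKFlat E) (hfl : ∀ n, ModSite.IsFlat (E.X n)) (q : ℤ)
    {M' M : ModSite.Mod O} (f : M' ⟶ M) [Mono f] :
    Mono ((DerivedCategory.homologyFunctor (ModSite.Mod O) (q + 1)).map
      ((ModSite.LTensorCx E).map ((DerivedCategory.singleFunctor (ModSite.Mod O) 0).map f))) ↔
    Mono (((ModSite.tensorBi O).map f).app (cokernel (E.d q (q + 1)))) := by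
  rw [mono_iff_chain O E hK f (q + 1), ← mono_opcyclesMap_iff O E q f]
  constructor
  · intro h
    haveI : PreservesFiniteLimits ((ModSite.tensorBi O).flip.obj (E.X (q + 1 + 1))) :=
      (isFlat_iff _).1 (hfl _)
    have h2 : Mono (((tensorLeftCx O E).map f).f (q + 1 + 1)) :=
      inferInstanceAs (Mono (((ModSite.tensorBi O).flip.obj (E.X (q + 1 + 1))).map f))
    exact mono_opcyclesMap ((tensorLeftCx O E).map f) (q + 1) (q + 1 + 1) rfl h h2
  · intro h2
    haveI := h2
    have hnat := homologyι_naturality ((tensorLeftCx O E).map f) (q + 1)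
    haveI : Mono (homologyMap ((tensorLeftCx O E).map f) (q + 1) ≫
        ((tensorLeftCx O E).obj M).homologyι (q + 1)) := by
      rw [hnat]
      exact mono_comp _ _
    exact mono_of_mono _ (((tensorLeftCx O E).obj M).homologyι (q + 1))

end Site

variable {V : Scheme.{u}}

/-- invariance of `Mono (f ⊗ W)` under isomorphisms of `W` -/
lemma mono_tensor_iff_of_iso {W W' : V.Modules} (e : W ≅ W') {M' M : V.Modules} (f : M' ⟶ M) :
    Mono ((DCoh.tensorBi.map f).app W) ↔ Mono ((DCoh.tensorBi.map f).app W') :=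
  mono_iff_of_sq _ _ ((DCoh.tensorBi.obj M').mapIso e) ((DCoh.tensorBi.obj M).mapIso e)
    ((DCoh.tensorBi.map f).naturality e.hom)

/-- **the comparison**: if `α : Q P ⟶ Q F` is an isomorphism on `H^i` for `i > q` and an
epimorphism on `H^q`, with `P` bounded above with flat terms, then for a monomorphism `f` the map
`H^j(f ⊗^L F)` is a monomorphism iff `f ⊗ coker(P^{j-1} ⟶ P^j)` is, for `j = q + 1, q + 2` -/
theorem mono_ltensor_iff (F P : CochainComplex V.Modules ℤ) [DCoh.HasLTensorCx F]
    (hPfl : ∀ n, ModSite.IsFlat (O := V.sheaf) (P.X n)) (b : ℤ)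
    (hPb : ∀ i : ℤ, b < i → IsZero (P.X i)) (q : ℤ)
    (α : DerivedCategory.Q.obj P ⟶ DerivedCategory.Q.obj F) (hα : IsApprox q α)
    {M' M : V.Modules} (f : M' ⟶ M) [Mono f] :
    (Mono ((DerivedCategory.homologyFunctor V.Modules (q + 1)).map
        ((DCoh.LTensorCx F).map ((DerivedCategory.singleFunctor V.Modules 0).map f))) ↔
      Mono ((DCoh.tensorBi.map f).app (cokernel (P.d q (q + 1))))) ∧
    (Mono ((DerivedCategory.homologyFunctor V.Modules (q + 1 + 1)).map
        ((DCoh.LTensorCx F).map ((DerivedCategory.singleFunctor V.Modules 0).map f))) ↔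
      Mono ((DCoh.tensorBi.map f).app (cokernel (P.d (q + 1) (q + 1 + 1))))) := by
  have hα' : IsApprox (q + 1 - 1) α := by
    have : q + 1 - 1 = q := by omega
    rw [this]
    exact hα
  obtain ⟨K, g, hcell, hKb, hepi, ⟨e⟩⟩ := exists_cone_model P (DerivedCategory.Q.obj F) (q + 1) α hα'
  have hq : q + 1 - 1 = q := by omega
  rw [hq] at hepi
  obtain ⟨hKK, hKfl⟩ := hcell.isKFlat
  have hPK : ModSite.IsKFlat (O := V.sheaf) P :=
    Groth.Agent.Lib.Helper5.Misc.KFlatSite.isKFlat_of_bounded_above V.sheaf P b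
      ((CochainComplex.isStrictlyLE_iff P b).2 hPb) hPfl
  let E' : CochainComplex V.Modules ℤ := CochainComplex.mappingCone g
  have hE'K : ModSite.IsKFlat (O := V.sheaf) E' :=
    (Groth.Agent.Lib.Helper5.Misc.KFlatSite.isKFlat_cone_two_of_three V.sheaf g).1 hKK hPK
  have hE'fl : ∀ n, ModSite.IsFlat (O := V.sheaf) (E'.X n) := fun n =>
    isFlat_cone_X V.sheaf g hKfl hPfl n
  haveI : DCoh.HasLTensorCx E' := Groth.Agent.Lib.Helper5.LTenAll.hasLTensorCx E'
  haveI hE'L : ModSite.HasLTensorCx (O := V.sheaf) E' :=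
    Groth.Agent.Lib.Helper5.LTenAll.hasLTensorCx E'
  obtain ⟨φ⟩ := Groth.Agent.Lib.Helper5.LTenCongr.nonempty_ltensor_iso_of_iso (K := E') (K' := F) e
  have key : ∀ j : ℤ, Mono ((DerivedCategory.homologyFunctor V.Modules j).map
        ((DCoh.LTensorCx F).map ((DerivedCategory.singleFunctor V.Modules 0).map f))) ↔
      Mono ((DerivedCategory.homologyFunctor V.Modules j).map
        ((DCoh.LTensorCx E').map ((DerivedCategory.singleFunctor V.Modules 0).map f))) := by
    intro j
    refine (mono_iff_of_sq _ _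
      ((DerivedCategory.homologyFunctor V.Modules j).mapIso (φ.app _))
      ((DerivedCategory.homologyFunctor V.Modules j).mapIso (φ.app _)) ?_).symm
    have hn := φ.hom.naturality ((DerivedCategory.singleFunctor V.Modules 0).map f)
    have h2 := congrArg (fun t => (DerivedCategory.homologyFunctor V.Modules j).map t) hn
    simp only [Functor.map_comp] at h2
    exact h2.symm
  have hfm : @Mono (ModSite.Mod V.sheaf) _ M' M f := ‹Mono f›
  have h1 : IsZero (K.X (q + 1 + 1)) := hKb _ (by omega)
  have h2 : IsZero (K.X (q + 1 + 1 + 1)) := hKb _ (by omega)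
  refine ⟨?_, ?_⟩
  · rw [key (q + 1)]
    refine (@mono_iff_cokernel _ _ _ V.sheaf E' hE'L hE'K hE'fl q M' M f hfm).trans ?_
    exact (mono_tensor_iff_of_iso (cokerIsoLow g q (q + 1) rfl h1 hepi) f).symm
  · rw [key (q + 1 + 1)]
    refine (@mono_iff_cokernel _ _ _ V.sheaf E' hE'L hE'K hE'fl (q + 1) M' M f hfm).trans ?_
    exact (mono_tensor_iff_of_iso (cokerIsoHigh g (q + 1) h1 h2) f).symm

end Groth.Agent.Lib.Helper5.CBC
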