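import Mathlib
import Groth.Prelude.Def_DCoh4
import Groth.Prelude.Def_FlatMod2
import Groth.Agent.Lib.Helper5.TorQC.Counit
import Groth.Agent.Lib.Helper5.StalkTen.StalkTenS
import Groth.Agent.Lib.Helper5.Stalk.Exact
import Groth.Agent.Lib.Helper5.ExactPQ.CokerP

/-!
# Flatness on an affine scheme can be tested on monomorphisms of quasi-coherent modules (helper5)
-/
set_option autoImplicit false
set_option linter.unusedSectionVars false
set_option linter.unusedVariables false
set_option linter.style.haveILetI false
universe u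
open CategoryTheory CategoryTheory.Limits AlgebraicGeometry MonoidalCategory TensorProduct

namespace Groth.Agent.Lib.Helper5.CBC

open Groth.Agent.Lib.Helper5.TildeStalk Groth.Agent.Lib.Helper5.TorQC
  Groth.Agent.Lib.Helper5.StalkAdj Groth.Agent.Lib.Helper5.StalkTenS
  Groth.Agent.Lib.Helper5.ExactPQ

variable (R : CommRingCat.{u})

/-- the quasi-coherent test morphism attached to a morphism of modules over a stalk -/
noncomputable abbrev tildeRS (z : Spec (CommRingCat.of R))
    {A' A : ModuleCat.{u} ((Spec (CommRingCat.of R)).presheaf.stalk z)} (a : A' ⟶ A) :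
    (tilde.functor R).obj ((ModuleCat.restrictScalars (phi R z)).obj A') ⟶
      (tilde.functor R).obj ((ModuleCat.restrictScalars (phi R z)).obj A) :=
  (tilde.functor R).map ((ModuleCat.restrictScalars (phi R z)).map a)

lemma stalkTildeRestrictIso_naturality (z : Spec (CommRingCat.of R))
    {A' A : ModuleCat.{u} ((Spec (CommRingCat.of R)).presheaf.stalk z)} (a : A' ⟶ A) :
    (stalkSh (Spec (CommRingCat.of R)) z).map (tildeRS R z a) ≫
        (stalkTildeRestrictIso R z A).hom =
      (stalkTildeRestrictIso R z A').hom ≫ a := by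
  have h1 := (tildeStalkIso R z).hom.naturality ((ModuleCat.restrictScalars (phi R z)).map a)
  have h2 := (ModuleCat.extendRestrictScalarsAdj.{u} (phi R z)).counit.naturality a
  dsimp only [stalkTildeRestrictIso, Iso.trans_hom, Iso.app_hom, asIso_hom]
  rw [← Category.assoc]
  erw [h1]
  rw [Category.assoc]
  erw [h2]
  rw [Category.assoc]
  rfl

/-- **flatness from quasi-coherent test monomorphisms** -/
theorem flat_of_mono_tensor_tilde (W : (Spec (CommRingCat.of R)).Modules)
    (h : ∀ (z : Spec (CommRingCat.of R))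
      (A' A : ModuleCat.{u} ((Spec (CommRingCat.of R)).presheaf.stalk z)) (a : A' ⟶ A), Mono a →
      Mono ((DCoh.tensorBi.map (tildeRS R z a)).app W)) :
    FlatMod.IsFlat W := by
  intro z
  let Z := Spec (CommRingCat.of R)
  show Module.Flat (Z.presheaf.stalk z) ((stalkSh Z z).obj W)
  rw [Module.Flat.iff_rTensor_preserves_injective_linearMap]
  intro N N' _ _ _ _ a ha
  let A' : ModuleCat.{u} (Z.presheaf.stalk z) := ModuleCat.of _ N
  let A : ModuleCat.{u} (Z.presheaf.stalk z) := ModuleCat.of _ N'
  let a' : A' ⟶ A := ModuleCat.ofHom a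
  have hm : Mono a' := (ModuleCat.mono_iff_injective a').2 ha
  haveI h1 : Mono ((DCoh.tensorBi.map (tildeRS R z a')).app W) := h z A' A a' hm
  have h2 : Mono ((stalkSh Z z).map ((DCoh.tensorBi.map (tildeRS R z a')).app W)) :=
    inferInstance
  have h3 : Mono ((stalkSh Z z).map (tildeRS R z a') ▷ (stalkSh Z z).obj W) :=
    (mono_iff_of_sq _ _ (stalkTensorIsoS Z z _ W) (stalkTensorIsoS Z z _ W)
      (stalkTensorIsoS_naturality_left z (tildeRS R z a') W).symm).1 h2
  have h4 : Mono (a' ▷ (stalkSh Z z).obj W) := by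
    refine (mono_iff_of_sq _ _
      (whiskerRightIso (stalkTildeRestrictIso R z A') ((stalkSh Z z).obj W))
      (whiskerRightIso (stalkTildeRestrictIso R z A) ((stalkSh Z z).obj W)) ?_).1 h3
    show (stalkTildeRestrictIso R z A').hom ▷ (stalkSh Z z).obj W ≫ a' ▷ (stalkSh Z z).obj W =
      (stalkSh Z z).map (tildeRS R z a') ▷ (stalkSh Z z).obj W ≫
        (stalkTildeRestrictIso R z A).hom ▷ (stalkSh Z z).obj W
    rw [← MonoidalCategory.comp_whiskerRight, ← MonoidalCategory.comp_whiskerRight,
      stalkTildeRestrictIso_naturality]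
  exact (ModuleCat.mono_iff_injective _).1 h4

end Groth.Agent.Lib.Helper5.CBC
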