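import Mathlib
import Groth.Prelude.Def_DCoh4
import Groth.Agent.Lib.Helper5.CBC.ResTenJ
import Groth.Agent.Lib.Helper5.Perf.ExactHom
import Groth.Agent.Lib.Helper5.ExactPQ.CokerP

/-!
# `M ↦ H^i(M ⊗^L F)` commutes with restriction along an open immersion (helper5)
-/
set_option autoImplicit false
set_option linter.unusedSectionVars false
set_option linter.unusedVariables false
set_option linter.style.haveILetI false
universe u
open CategoryTheory CategoryTheory.Limits AlgebraicGeometry
attribute [local instance] HasDerivedCategory.standard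

namespace Groth.Agent.Lib.Helper5.CBC

open Groth.Agent.Lib.Helper5.ExactPQ Groth.Agent.Lib.Helper5.ExactHom

/-- `M ↦ H^i(M ⊗^L F)` -/
noncomputable abbrev TX {X : Scheme.{u}} (F : CochainComplex X.Modules ℤ) [DCoh.HasLTensorCx F]
    (i : ℤ) : X.Modules ⥤ X.Modules :=
  DerivedCategory.singleFunctor X.Modules 0 ⋙ DCoh.LTensorCx F ⋙
    DerivedCategory.homologyFunctor X.Modules i

variable {X V : Scheme.{u}} (j : V ⟶ X) [IsOpenImmersion j] (F : CochainComplex X.Modules ℤ)
  [DCoh.HasLTensorCx F] [DCoh.HasLTensorCx ((ResJ.RJ j).obj F)]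

/-- `H^i(M ⊗^L F)|_V ≅ H^i(M|_V ⊗^L F|_V)`, naturally in `M` -/
noncomputable def transIso (i : ℤ) :
    TX F i ⋙ Scheme.Modules.restrictFunctor j ≅
      Scheme.Modules.restrictFunctor j ⋙ TX ((ResJ.RJ j).obj F) i :=
  let r := Scheme.Modules.restrictFunctor j
  let e1 : (DCoh.LTensorCx F ⋙ DerivedCategory.homologyFunctor X.Modules i) ⋙ r ≅
      DCoh.restrictD j ⋙ DCoh.LTensorCx ((ResJ.RJ j).obj F) ⋙
        DerivedCategory.homologyFunctor V.Modules i :=
    Functor.associator _ _ _ ≪≫
      Functor.isoWhiskerLeft (DCoh.LTensorCx F) (derivedHomologyIso r i).symm ≪≫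
      (Functor.associator _ _ _).symm ≪≫
      Functor.isoWhiskerRight (ResJ.resTenIso j F) (DerivedCategory.homologyFunctor V.Modules i) ≪≫
      Functor.associator _ _ _
  Functor.associator _ _ _ ≪≫
    Functor.isoWhiskerLeft (DerivedCategory.singleFunctor X.Modules 0) e1 ≪≫
    (Functor.associator _ _ _).symm ≪≫
    Functor.isoWhiskerRight (r.mapDerivedCategorySingleFunctor 0)
      (DCoh.LTensorCx ((ResJ.RJ j).obj F) ⋙ DerivedCategory.homologyFunctor V.Modules i) ≪≫
    Functor.associator _ _ _

theorem mono_TX_restrict_iff (i : ℤ) {N' N : X.Modules} (f : N' ⟶ N) :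
    Mono ((Scheme.Modules.restrictFunctor j).map ((TX F i).map f)) ↔
      Mono ((TX ((ResJ.RJ j).obj F) i).map ((Scheme.Modules.restrictFunctor j).map f)) :=
  mono_iff_of_sq _ _ ((transIso j F i).app N') ((transIso j F i).app N)
    ((transIso j F i).hom.naturality f).symm

/-- transport of injectivity from `X` to `V` along the pushforward -/
theorem mono_TV_of_mono_TX_push (i : ℤ) {M' M : V.Modules} (fV : M' ⟶ M)
    (h : Mono ((TX F i).map ((Scheme.Modules.pushforward j).map fV))) :
    Mono ((TX ((ResJ.RJ j).obj F) i).map fV) := by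
  haveI := h
  have h1 : Mono ((Scheme.Modules.restrictFunctor j).map
      ((TX F i).map ((Scheme.Modules.pushforward j).map fV))) := inferInstance
  have h2 := (mono_TX_restrict_iff j F i ((Scheme.Modules.pushforward j).map fV)).1 h1
  let c := Scheme.Modules.restrictFunctorAdjCounitIso j
  refine (mono_iff_of_sq _ _ ((TX ((ResJ.RJ j).obj F) i).mapIso (c.app M'))
    ((TX ((ResJ.RJ j).obj F) i).mapIso (c.app M)) ?_).1 h2
  have hn := c.hom.naturality fV
  have h3 := congrArg (fun t => (TX ((ResJ.RJ j).obj F) i).map t) hn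
  simp only [Functor.map_comp] at h3
  exact h3.symm

end Groth.Agent.Lib.Helper5.CBC
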