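import Mathlib
import Groth.Prelude.Def_PerfD
import Groth.Agent.Lib.Helper5.CBC.MonoCoker
import Groth.Agent.Lib.Helper5.CBC.TransJ
import Groth.Agent.Lib.Helper5.CBC.LocalMain
import Groth.Agent.Lib.Helper5.CBC.QcFlat
import Groth.Agent.Lib.Helper5.KFlatSite2.CokerFlat
import Groth.Agent.Lib.Helper5.Misc.StalkFlatSch
import Groth.Agent.Lib.Helper5.LTen.DerInv
import Groth.Agent.Lib.Helper1.PushQc

/-!
# Cohomology and base change for complexes: assembling the local arguments (helper5)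
-/
set_option autoImplicit false
set_option linter.unusedSectionVars false
set_option linter.unusedVariables false
set_option linter.style.haveILetI false
universe u
open CategoryTheory CategoryTheory.Limits AlgebraicGeometry
attribute [local instance] HasDerivedCategory.standard

namespace Groth.Agent.Lib.Helper5.CBC

open Groth.Agent.Lib.Helper5.PCApprox Groth.Agent.Lib.Helper5.KFlatSiteQ
  Groth.Agent.Lib.Helper5.FpFlat Groth.Agent.Lib.Helper5.PerfTri Groth.Agent.Lib.Helper5.LocNull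
  Groth.Agent.Lib.Helper5.TensorSheaf Groth.Agent.Lib.Helper5.TensorSES

section ApproxFlat

/-- approximations by strictly perfect complexes with flat cokernels in degrees `(p-1, p)` and
`(p, p+1)` -/
def ApproxFlat (p : ℤ) {U : Scheme.{u}} (K : DCoh.D U) : Prop :=
  ∃ (P : CochainComplex U.Modules ℤ) (α : DerivedCategory.Q.obj P ⟶ K),
    DCoh.IsStrictlyPerfect P ∧ IsApprox (p - 1) α ∧
    FlatMod.IsFlat (cokernel (P.d (p - 1) p)) ∧ FlatMod.IsFlat (cokernel (P.d p (p + 1)))

variable {p : ℤ} {U : Scheme.{u}}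

theorem ApproxFlat.of_iso {K K' : DCoh.D U} (h : ApproxFlat p K) (e : K ≅ K') :
    ApproxFlat p K' := by
  obtain ⟨P, α, hP, hα, h1, h2⟩ := h
  exact ⟨P, α ≫ e.hom, hP, hα.comp_iso e, h1, h2⟩

theorem flat_cokernel_restrict {U' : Scheme.{u}} (k : U' ⟶ U) [IsOpenImmersion k]
    (P : CochainComplex U.Modules ℤ) (i j : ℤ) (h : FlatMod.IsFlat (cokernel (P.d i j))) :
    FlatMod.IsFlat (cokernel (((RCx k).obj P).d i j)) :=
  flatMod_of_iso (PreservesCokernel.iso (Scheme.Modules.restrictFunctor k) (P.d i j))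
    (flatMod_restrict k _ h)

theorem ApproxFlat.restrict {K : DCoh.D U} (h : ApproxFlat p K) {U' : Scheme.{u}} (k : U' ⟶ U)
    [IsOpenImmersion k] : ApproxFlat p ((DCoh.restrictD k).obj K) := by
  obtain ⟨P, α, hP, hα, h1, h2⟩ := h
  exact ⟨(RCx k).obj P,
    ((Scheme.Modules.restrictFunctor k).mapDerivedCategoryFactors.app P).inv ≫
      (DCoh.restrictD k).map α, isStrictlyPerfect_restrict k hP,
    (hα.restrict k).iso_comp
      ((Scheme.Modules.restrictFunctor k).mapDerivedCategoryFactors.app P).symm,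
    flat_cokernel_restrict k P _ _ h1, flat_cokernel_restrict k P _ _ h2⟩

variable {X : Scheme.{u}}

theorem approxFlat_comp {U' : Scheme.{u}} (k : U' ⟶ U) (j : U ⟶ X)
    [IsOpenImmersion k] [IsOpenImmersion j] {K : DCoh.D X}
    (h : ApproxFlat p ((DCoh.restrictD j).obj K)) :
    ApproxFlat p ((DCoh.restrictD (k ≫ j)).obj K) :=
  (h.restrict k).of_iso (restrictDCompObjIso k j K).symm

theorem approxFlat_congr {j j' : U ⟶ X} [IsOpenImmersion j]
    [IsOpenImmersion j'] (hj : j = j') {K : DCoh.D X}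
    (h : ApproxFlat p ((DCoh.restrictD j).obj K)) : ApproxFlat p ((DCoh.restrictD j').obj K) := by
  subst hj
  exact h

/-- **the local-to-global step**, in terms of `ApproxFlat` -/
theorem main_of_approxFlat [∀ x : X, DCoh.HasLpull (X.fromSpecResidueField x)] (E : DCoh.D X)
    (Pc : CochainComplex X.Modules ℤ) (hPc : Cell X.sheaf Pc) (eP : DCoh.toD X Pc ≅ E) (p : ℤ)
    (h : ∀ x : X, ∃ V : X.Opens, x ∈ V ∧ ApproxFlat p ((DCoh.restrictD V.ι).obj E)) :
    FlatMod.IsFinLocFree (DCoh.HD E p) ∧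
      IsLocallyConstant (fun x : X => PerfD.betti E x p) := by
  apply main_of_local_flat E Pc hPc eP p
  intro x
  obtain ⟨V, hxV, hV⟩ := h x
  obtain ⟨P, α, hP, hα, h1, h2⟩ := hV.of_iso ((DCoh.restrictD V.ι).mapIso eP.symm ≪≫
    (Scheme.Modules.restrictFunctor V.ι).mapDerivedCategoryFactors.app Pc)
  exact ⟨V, hxV, P, α, hP, hα, h1, h2⟩

end ApproxFlat

section Mono

variable {V : Scheme.{u}}

/-- `mono_ltensor_iff` with the indices `(p - 1, p, p + 1)` -/
theorem mono_ltensor_iff' (F P : CochainComplex V.Modules ℤ) [DCoh.HasLTensorCx F]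
    (hPfl : ∀ n, ModSite.IsFlat (O := V.sheaf) (P.X n)) (b : ℤ)
    (hPb : ∀ i : ℤ, b < i → IsZero (P.X i)) (p : ℤ)
    (α : DerivedCategory.Q.obj P ⟶ DerivedCategory.Q.obj F) (hα : IsApprox (p - 1) α)
    {M' M : V.Modules} (f : M' ⟶ M) [Mono f] :
    (Mono ((TX F p).map f) ↔ Mono ((DCoh.tensorBi.map f).app (cokernel (P.d (p - 1) p)))) ∧
    (Mono ((TX F (p + 1)).map f) ↔
      Mono ((DCoh.tensorBi.map f).app (cokernel (P.d p (p + 1))))) := by
  obtain ⟨q, rfl⟩ : ∃ q, p = q + 1 := ⟨p - 1, by omega⟩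
  have hq : q + 1 - 1 = q := by omega
  rw [hq] at hα ⊢
  exact mono_ltensor_iff F P hPfl b hPb q α hα f

/-- tensor-flatness from preservation of monomorphisms -/
theorem isFlat_of_forall_mono (W : V.Modules)
    (h : ∀ S : ShortComplex V.Modules, S.ShortExact → Mono ((DCoh.tensorBi.map S.f).app W)) :
    ModSite.IsFlat (O := V.sheaf) W := by
  rw [isFlat_iff, Functor.preservesFiniteLimits_iff_forall_exact_map_and_mono]
  intro S hS
  exact ⟨(map_exact_epi _ S hS).1, h S hS⟩

end Mono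

variable {X V : Scheme.{u}}

/-- **flatness of the cokernels on a chart**, all modules as test objects -/
theorem approxFlat_of_mono_all (j : V ⟶ X) [IsOpenImmersion j]
    (Pc : CochainComplex X.Modules ℤ) [DCoh.HasLTensorCx Pc] (p : ℤ)
    (hm : ∀ i : ℤ, (i = p ∨ i = p + 1) → ∀ {N' N : X.Modules} (f : N' ⟶ N), Mono f →
      Mono ((TX Pc i).map f))
    (hA : Approx (p - 1) ((DCoh.restrictD j).obj (DerivedCategory.Q.obj Pc))) :
    ApproxFlat p ((DCoh.restrictD j).obj (DerivedCategory.Q.obj Pc)) := by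
  obtain ⟨P, α₀, hP, hα₀⟩ := hA
  let FV : CochainComplex V.Modules ℤ := (ResJ.RJ j).obj Pc
  haveI : DCoh.HasLTensorCx FV := Groth.Agent.Lib.Helper5.LTenAll.hasLTensorCx FV
  let ι : (DCoh.restrictD j).obj (DerivedCategory.Q.obj Pc) ≅ DerivedCategory.Q.obj FV :=
    (Scheme.Modules.restrictFunctor j).mapDerivedCategoryFactors.app Pc
  have hα : IsApprox (p - 1) (α₀ ≫ ι.hom) := hα₀.comp_iso ι
  have hPfl : ∀ n, ModSite.IsFlat (O := V.sheaf) (P.X n) := fun n =>
    Groth.Agent.Lib.Helper5.Misc.StalkFlatSch.isFlat_of_flatMod _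
      (Groth.Agent.Lib.Helper5.LTenDer.isFlat_of_isFinLocFree _ (hP.2 n))
  obtain ⟨a, b, hab⟩ := hP.1
  have hPb : ∀ i : ℤ, b < i → IsZero (P.X i) := fun i hi => hab i (Or.inr hi)
  haveI : (Scheme.Modules.pushforward j).IsRightAdjoint :=
    (Scheme.Modules.restrictAdjunction j).isRightAdjoint
  have key : ∀ {M' M : V.Modules} (fV : M' ⟶ M), Mono fV →
      Mono ((DCoh.tensorBi.map fV).app (cokernel (P.d (p - 1) p))) ∧
        Mono ((DCoh.tensorBi.map fV).app (cokernel (P.d p (p + 1)))) := by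
    intro M' M fV hfV
    haveI := hfV
    have hpm : Mono ((Scheme.Modules.pushforward j).map fV) := inferInstance
    have h1 := mono_TV_of_mono_TX_push j Pc p fV (hm p (Or.inl rfl) _ hpm)
    have h2 := mono_TV_of_mono_TX_push j Pc (p + 1) fV (hm (p + 1) (Or.inr rfl) _ hpm)
    obtain ⟨i1, i2⟩ := mono_ltensor_iff' FV P hPfl b hPb p (α₀ ≫ ι.hom) hα fV
    exact ⟨i1.1 h1, i2.1 h2⟩
  refine ⟨P, α₀, hP, hα₀, ?_, ?_⟩
  · exact Groth.Agent.Lib.Helper5.Pure.flatMod_of_isFlat _
      (isFlat_of_forall_mono _ (fun S hS => (key S.f hS.mono_f).1))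
  · exact Groth.Agent.Lib.Helper5.Pure.flatMod_of_isFlat _
      (isFlat_of_forall_mono _ (fun S hS => (key S.f hS.mono_f).2))

/-- **flatness of the cokernels on an affine chart**, quasi-coherent modules as test objects -/
theorem approxFlat_of_mono_qcoh (R : CommRingCat.{u}) (j : Spec (CommRingCat.of R) ⟶ X)
    [IsOpenImmersion j] [QuasiCompact j]
    (Pc : CochainComplex X.Modules ℤ) [DCoh.HasLTensorCx Pc] (p : ℤ)
    (hm : ∀ i : ℤ, (i = p ∨ i = p + 1) → ∀ {N' N : X.Modules} (f : N' ⟶ N), Mono f →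
      N'.IsQuasicoherent → N.IsQuasicoherent → Mono ((TX Pc i).map f))
    (hA : Approx (p - 1) ((DCoh.restrictD j).obj (DerivedCategory.Q.obj Pc))) :
    ApproxFlat p ((DCoh.restrictD j).obj (DerivedCategory.Q.obj Pc)) := by
  obtain ⟨P, α₀, hP, hα₀⟩ := hA
  let FV : CochainComplex (Spec (CommRingCat.of R)).Modules ℤ := (ResJ.RJ j).obj Pc
  haveI : DCoh.HasLTensorCx FV := Groth.Agent.Lib.Helper5.LTenAll.hasLTensorCx FV
  let ι : (DCoh.restrictD j).obj (DerivedCategory.Q.obj Pc) ≅ DerivedCategory.Q.obj FV :=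
    (Scheme.Modules.restrictFunctor j).mapDerivedCategoryFactors.app Pc
  have hα : IsApprox (p - 1) (α₀ ≫ ι.hom) := hα₀.comp_iso ι
  have hPfl : ∀ n, ModSite.IsFlat (O := (Spec (CommRingCat.of R)).sheaf) (P.X n) := fun n =>
    Groth.Agent.Lib.Helper5.Misc.StalkFlatSch.isFlat_of_flatMod _
      (Groth.Agent.Lib.Helper5.LTenDer.isFlat_of_isFinLocFree _ (hP.2 n))
  obtain ⟨a, b, hab⟩ := hP.1
  have hPb : ∀ i : ℤ, b < i → IsZero (P.X i) := fun i hi => hab i (Or.inr hi)
  haveI : (Scheme.Modules.pushforward j).IsRightAdjoint :=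
    (Scheme.Modules.restrictAdjunction j).isRightAdjoint
  have key : ∀ (z : Spec (CommRingCat.of R))
      (A' A : ModuleCat.{u} ((Spec (CommRingCat.of R)).presheaf.stalk z)) (a : A' ⟶ A), Mono a →
      Mono ((DCoh.tensorBi.map (tildeRS R z a)).app (cokernel (P.d (p - 1) p))) ∧
        Mono ((DCoh.tensorBi.map (tildeRS R z a)).app (cokernel (P.d p (p + 1)))) := by
    intro z A' A a ha
    haveI := ha
    haveI hfV : Mono (tildeRS R z a) := inferInstance
    have hpm : Mono ((Scheme.Modules.pushforward j).map (tildeRS R z a)) := inferInstance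
    have hq' : ((Scheme.Modules.pushforward j).obj ((tilde.functor R).obj
        ((ModuleCat.restrictScalars (Groth.Agent.Lib.Helper5.TildeStalk.phi R z)).obj
          A'))).IsQuasicoherent :=
      Groth.Agent.Helper1.PushQc.isQuasicoherent_pushforward j _
    have hq : ((Scheme.Modules.pushforward j).obj ((tilde.functor R).obj
        ((ModuleCat.restrictScalars (Groth.Agent.Lib.Helper5.TildeStalk.phi R z)).obj
          A))).IsQuasicoherent :=
      Groth.Agent.Helper1.PushQc.isQuasicoherent_pushforward j _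
    have h1 := mono_TV_of_mono_TX_push j Pc p (tildeRS R z a) (hm p (Or.inl rfl) _ hpm hq' hq)
    have h2 := mono_TV_of_mono_TX_push j Pc (p + 1) (tildeRS R z a)
      (hm (p + 1) (Or.inr rfl) _ hpm hq' hq)
    obtain ⟨i1, i2⟩ := mono_ltensor_iff' FV P hPfl b hPb p (α₀ ≫ ι.hom) hα (tildeRS R z a)
    exact ⟨i1.1 h1, i2.1 h2⟩
  refine ⟨P, α₀, hP, hα₀, ?_, ?_⟩
  · exact flat_of_mono_tensor_tilde R _ (fun z A' A a ha => (key z A' A a ha).1)
  · exact flat_of_mono_tensor_tilde R _ (fun z A' A a ha => (key z A' A a ha).2)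

end Groth.Agent.Lib.Helper5.CBC
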