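import Mathlib
import Groth.Agent.Lib.Helper5.CBC.HFibConst
import Groth.Agent.Lib.Helper4.RedRank1

/-!
# Over a reduced ring, locally constant fibre homology forces flat cokernels (helper5)
-/
set_option autoImplicit false
set_option linter.unusedSectionVars false
set_option linter.unusedVariables false
set_option linter.style.haveILetI false
universe u
open CategoryTheory CategoryTheory.Limits Topology

namespace Groth.Agent.Lib.Helper5.CBC

open Groth.Agent.Helper1.FlatCxL Groth.Agent.Lib.Helper5.RingSemi

variable {A : Type u} [CommRing A]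

theorem flat_quot_of_rH'_locConst [IsReduced A] (S : ShortComplex (ModuleCat.{u} A))
    [Module.Finite A S.X₂] [Module.Finite A S.X₃] [Module.Free A S.X₃]
    (h : PrimeSpectrum A → ℕ) (hh : IsLocallyConstant h)
    (hpt : ∀ z : PrimeSpectrum A, ∃ (κ : Type u) (_ : CommRing κ) (_ : IsField κ)
      (_ : Algebra A κ), RingHom.ker (algebraMap A κ) = z.asIdeal ∧ rH' κ S = h z) :
    Module.Flat A (S.X₂ ⧸ LinearMap.range S.f.hom) ∧
      Module.Flat A (S.X₃ ⧸ LinearMap.range S.g.hom) := by
  have c : ∀ y : PrimeSpectrum A, fibreRank S.X₃ y = Module.finrank A S.X₃ := fun y => by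
    haveI : Nontrivial A := y.nontrivial
    unfold fibreRank
    exact Module.finrank_baseChange
  have hsum : ∀ z : PrimeSpectrum A, h z + (fun _ : PrimeSpectrum A => Module.finrank A S.X₃) z =
      fibreRank (S.X₂ ⧸ LinearMap.range S.f.hom) z +
        fibreRank (S.X₃ ⧸ LinearMap.range S.g.hom) z := by
    intro z
    obtain ⟨κ, _, hκ, a, hk, hr⟩ := hpt z
    letI : Field κ := hκ.toField
    letI : Algebra A κ := a
    have k := rH_add κ S
    have hz : kerPt (A := A) κ = z := PrimeSpectrum.ext hk
    rw [hz, c] at k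
    have hr' : rH κ S = h z := hr
    rw [hr'] at k
    exact k
  obtain ⟨l1, l2⟩ := Groth.Agent.Lib.Helper4.RedRank1.isLocallyConstant_of_add
    (fibreRank (A := A) (S.X₂ ⧸ LinearMap.range S.f.hom))
    (fibreRank (A := A) (S.X₃ ⧸ LinearMap.range S.g.hom)) h
    (fun _ : PrimeSpectrum A => Module.finrank A S.X₃)
    (fun x₀ => eventually_fibreRank_le _ x₀) (fun x₀ => eventually_fibreRank_le _ x₀) hh
    (IsLocallyConstant.const _) hsum
  exact ⟨Groth.Agent.Lib.Helper4.RedRank1.flat_of_isLocallyConstant_fibreRank _ l1,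
    Groth.Agent.Lib.Helper4.RedRank1.flat_of_isLocallyConstant_fibreRank _ l2⟩

end Groth.Agent.Lib.Helper5.CBC
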