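import Mathlib
import Groth.Agent.Lib.Helper5.CBC.HFibConst

/-!
# The tilde of a flat module is flat; flatness of restricted cokernels (helper5)
-/
set_option autoImplicit false
set_option linter.unusedSectionVars false
set_option linter.unusedVariables false
set_option linter.style.haveILetI false
universe u
noncomputable section
open CategoryTheory CategoryTheory.Limits AlgebraicGeometry Opposite TopologicalSpace Topology

namespace Groth.Agent.Lib.Helper5.CBC

open Groth.Agent.Lib.Helper5.FpFlat Groth.Agent.Lib.Helper5.FtFp

/-- the stalks of the tilde of a flat module are flat over the local rings -/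
theorem flat_stalk_tilde_of_flat (R : CommRingCat.{u}) (N : ModuleCat.{u} R) [Module.Flat R N]
    (p : PrimeSpectrum R) :
    Module.Flat ((Spec R).presheaf.stalk p) ((tilde N).presheaf.stalk p) := by
  letI : Algebra R ((Spec R).presheaf.stalk p) :=
    inferInstanceAs (Algebra R ((AlgebraicGeometry.structurePresheafInCommRingCat R).stalk p))
  haveI : IsLocalization.AtPrime ((Spec R).presheaf.stalk p) p.asIdeal :=
    inferInstanceAs (IsLocalization.AtPrime ((Spec.structureSheaf R).presheaf.stalk p) p.asIdeal)
  haveI : IsScalarTower R ((Spec R).presheaf.stalk p) ((tilde N).presheaf.stalk p) :=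
    inferInstanceAs (IsScalarTower R
      ((AlgebraicGeometry.structurePresheafInCommRingCat R).stalk p)
      ↑(TopCat.Presheaf.stalk (AlgebraicGeometry.moduleStructurePresheaf R N).presheaf p))
  haveI := isLocalizedModule_toStalk R N p
  exact Module.Flat.of_isLocalizedModule ((Spec R).presheaf.stalk p) p.asIdeal.primeCompl
    (tilde.toStalk N p).hom

/-- the tilde of a flat module is (stalkwise) flat -/
theorem flatMod_tilde_of_flat (R : CommRingCat.{u}) (N : ModuleCat.{u} R) [Module.Flat R N] :
    FlatMod.IsFlat (tilde N) := fun p => flat_stalk_tilde_of_flat R N p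

variable {Z : Scheme.{u}}

/-- flatness of the restricted cokernel sheaf, from flatness of the quotient by the range -/
theorem flatMod_restrict_cokernel_of_flat_quot {M P : Z.Modules} (t : M ⟶ P)
    {R : CommRingCat.{u}} (ι : Spec R ⟶ Z) [IsOpenImmersion ι] (a b : ℕ) (φ : Fr R a ⟶ Fr R b)
    (εa : (Scheme.Modules.restrictFunctor ι).obj M ≅ (tilde.functor R).obj (Fr R a))
    (εb : (Scheme.Modules.restrictFunctor ι).obj P ≅ (tilde.functor R).obj (Fr R b))
    (comm : (Scheme.Modules.restrictFunctor ι).map t ≫ εb.hom = εa.hom ≫ (tilde.functor R).map φ)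
    (hfl : Module.Flat R ((Fr R b) ⧸ LinearMap.range φ.hom)) :
    FlatMod.IsFlat ((Scheme.Modules.restrictFunctor ι).obj (cokernel t)) := by
  let r := Scheme.Modules.restrictFunctor ι
  have e : r.obj (cokernel t) ≅ (tilde.functor R).obj (cokernel φ) :=
    PreservesCokernel.iso r t ≪≫ cokernel.mapIso (r.map t) ((tilde.functor R).map φ) εa εb comm ≪≫
      (PreservesCokernel.iso (tilde.functor R) φ).symm
  haveI : Module.Flat R ↑(cokernel φ) :=
    Module.Flat.of_linearEquiv (ModuleCat.cokernelIsoRangeQuotient φ).toLinearEquiv
  exact flatMod_of_iso e.symm (flatMod_tilde_of_flat R (cokernel φ))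

end Groth.Agent.Lib.Helper5.CBC
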