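import Mathlib
import Groth.Agent.Lib.Helper5.CBC.Assemble
import Groth.Agent.Lib.Helper5.CBC.TildeFlat
import Groth.Agent.Lib.Helper5.CBC.RedFlat
import Groth.Agent.Lib.Helper5.Euler.BettiSemi

/-!
# On a reduced scheme, locally constant Betti numbers force flat cokernels (helper5)
-/
set_option autoImplicit false
set_option linter.unusedSectionVars false
set_option linter.unusedVariables false
set_option linter.style.haveILetI false
set_option maxHeartbeats 1600000
universe u
open CategoryTheory CategoryTheory.Limits AlgebraicGeometry Opposite TopologicalSpace Topology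
attribute [local instance] HasDerivedCategory.standard

namespace Groth.Agent.Lib.Helper5.CBC

open Groth.Agent.Lib.Helper5.PCApprox Groth.Agent.Lib.Helper5.KFlatSiteQ
  Groth.Agent.Lib.Helper5.FpFlat Groth.Agent.Lib.Helper5.PerfTri Groth.Agent.Lib.Helper5.LocNull
  Groth.Agent.Lib.Helper5.RingSemi Groth.Agent.Lib.Helper5.AffLocal
  Groth.Agent.Lib.Helper5.SpecGamma Groth.Agent.Lib.Helper5.FtFp Groth.Agent.Lib.Helper5.BettiSemi

variable {X : Scheme.{u}}

/-- an approximation whose cokernels become flat after restriction -/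
theorem approxFlat_restrict_of_flat {p : ℤ} {U U' : Scheme.{u}} {K : DCoh.D U}
    (P : CochainComplex U.Modules ℤ) (α : DerivedCategory.Q.obj P ⟶ K)
    (hP : DCoh.IsStrictlyPerfect P) (hα : IsApprox (p - 1) α) (k : U' ⟶ U) [IsOpenImmersion k]
    (h1 : FlatMod.IsFlat ((Scheme.Modules.restrictFunctor k).obj (cokernel (P.d (p - 1) p))))
    (h2 : FlatMod.IsFlat ((Scheme.Modules.restrictFunctor k).obj (cokernel (P.d p (p + 1))))) :
    ApproxFlat p ((DCoh.restrictD k).obj K) :=
  ⟨(RCx k).obj P,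
    ((Scheme.Modules.restrictFunctor k).mapDerivedCategoryFactors.app P).inv ≫
      (DCoh.restrictD k).map α, isStrictlyPerfect_restrict k hP,
    (hα.restrict k).iso_comp
      ((Scheme.Modules.restrictFunctor k).mapDerivedCategoryFactors.app P).symm,
    flatMod_of_iso (PreservesCokernel.iso (Scheme.Modules.restrictFunctor k) (P.d (p - 1) p)) h1,
    flatMod_of_iso (PreservesCokernel.iso (Scheme.Modules.restrictFunctor k) (P.d p (p + 1))) h2⟩

/-- transport of `ApproxFlat` to the open range of an open immersion -/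
theorem approxFlat_opensRange {p : ℤ} {U : Scheme.{u}} (j : U ⟶ X) [IsOpenImmersion j]
    {K : DCoh.D X} (h : ApproxFlat p ((DCoh.restrictD j).obj K)) :
    ApproxFlat p ((DCoh.restrictD j.opensRange.ι).obj K) :=
  approxFlat_congr (Scheme.Hom.isoOpensRange_inv_comp j)
    (approxFlat_comp j.isoOpensRange.inv j h)

/-- **reduced base, locally constant Betti number ⟹ flat cokernels near each point** -/
theorem exists_approxFlat_of_betti_locConst [IsReduced X]
    [∀ x : X, DCoh.HasLpull (X.fromSpecResidueField x)] (E : DCoh.D X)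
    (Pc : CochainComplex X.Modules ℤ) (hPc : Cell X.sheaf Pc) (eP : DCoh.toD X Pc ≅ E) (p : ℤ)
    (hc : IsLocallyConstant (fun x : X => PerfD.betti E x p))
    (V : X.Opens) (hA : Approx (p - 1) ((DCoh.restrictD V.ι).obj E)) (x : X) (hx : x ∈ V) :
    ∃ W : X.Opens, x ∈ W ∧ ApproxFlat p ((DCoh.restrictD W.ι).obj E) := by
  classical
  let ε : (DCoh.restrictD V.ι).obj E ≅ DerivedCategory.Q.obj ((DCoh.restrictCx V).obj Pc) :=
    (DCoh.restrictD V.ι).mapIso eP.symm ≪≫
      (Scheme.Modules.restrictFunctor V.ι).mapDerivedCategoryFactors.app Pc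
  obtain ⟨P, α, hP, hα⟩ := hA.of_iso ε
  let S : ShortComplex (V : Scheme.{u}).Modules := P.sc' (p - 1) p (p + 1)
  obtain ⟨U, hU, hzU, n₁, n₂, n₃, f', g', hfg, ⟨σ⟩⟩ :=
    exists_affine_model' S (hP.2 _) (hP.2 _) (hP.2 _) (⟨x, hx⟩ : (V : Scheme.{u}))
  let S' : ShortComplex (ModuleCat.{u} Γ((V : Scheme.{u}), U)) := ShortComplex.mk f' g' hfg
  let k : Spec Γ((V : Scheme.{u}), U) ⟶ (V : Scheme.{u}) := hU.fromSpec
  haveI : Module.Finite Γ((V : Scheme.{u}), U) S'.X₂ :=
    inferInstanceAs (Module.Finite Γ((V : Scheme.{u}), U) (ULift.{u} (Fin n₂) →₀ Γ((V : Scheme.{u}), U)))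
  haveI : Module.Finite Γ((V : Scheme.{u}), U) S'.X₃ :=
    inferInstanceAs (Module.Finite Γ((V : Scheme.{u}), U) (ULift.{u} (Fin n₃) →₀ Γ((V : Scheme.{u}), U)))
  haveI : Module.Free Γ((V : Scheme.{u}), U) S'.X₃ :=
    inferInstanceAs (Module.Free Γ((V : Scheme.{u}), U) (ULift.{u} (Fin n₃) →₀ Γ((V : Scheme.{u}), U)))
  haveI : _root_.IsReduced Γ((V : Scheme.{u}), U) := inferInstance
  have hkinj : Function.Injective k.base := (Scheme.Hom.isOpenEmbedding k).injective
  have hinj : Function.Injective V.ι.base := (Scheme.Hom.isOpenEmbedding V.ι).injective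
  let h : PrimeSpectrum Γ((V : Scheme.{u}), U) → ℕ :=
    fun z => PerfD.betti E (V.ι.base (k.base z)) p
  have hh : IsLocallyConstant h :=
    hc.comp_continuous ((Scheme.Hom.continuous V.ι).comp (Scheme.Hom.continuous k))
  have hpt : ∀ z : PrimeSpectrum Γ((V : Scheme.{u}), U), ∃ (κ : Type u) (_ : CommRing κ)
      (_ : IsField κ) (_ : Algebra Γ((V : Scheme.{u}), U) κ),
      RingHom.ker (algebraMap Γ((V : Scheme.{u}), U) κ) = z.asIdeal ∧ rH' κ S' = h z := by
    intro z
    let yV : (V : Scheme.{u}) := k.base z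
    let y : X := V.ι.base yV
    have hy : y ∈ V := yV.2
    have hrange : Set.range (X.fromSpecResidueField y).base ⊆ Set.range V.ι.base := by
      rw [Scheme.range_fromSpecResidueField, Scheme.Opens.range_ι]
      exact Set.singleton_subset_iff.2 hy
    let jy : Spec (X.residueField y) ⟶ V :=
      IsOpenImmersion.lift V.ι (X.fromSpecResidueField y) hrange
    have hjy : jy ≫ V.ι = X.fromSpecResidueField y := IsOpenImmersion.lift_fac _ _ _
    have hjpt : ∀ q : Spec (X.residueField y), jy.base q = yV := by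
      intro q
      apply hinj
      have h1 : V.ι.base (jy.base q) = (X.fromSpecResidueField y).base q := by
        rw [← hjy]
        rfl
      rw [h1]
      have h2 : (X.fromSpecResidueField y).base q ∈ Set.range (X.fromSpecResidueField y).base :=
        ⟨q, rfl⟩
      rw [Scheme.range_fromSpecResidueField] at h2
      exact h2
    have hL : IsField (X.residueField y) := Field.toIsField _
    obtain ⟨p₀⟩ := nonempty_spec hL
    have hr : Set.range jy.base ⊆ U := by
      rintro _ ⟨q, rfl⟩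
      rw [hjpt q]
      have : k.base z ∈ Set.range hU.fromSpec.base := ⟨z, rfl⟩
      rw [hU.range_fromSpec] at this
      exact this
    obtain ⟨ψ, hψ⟩ := exists_factor hU (X.residueField y) jy hr
    have hz : (Spec.map ψ).base p₀ = z := by
      apply hkinj
      have h1 : k.base ((Spec.map ψ).base p₀) = jy.base p₀ := by
        rw [← hψ]
        rfl
      rw [h1, hjpt p₀]
    refine ⟨X.residueField y, inferInstance, hL, ψ.hom.toAlgebra, ?_, ?_⟩
    · rw [← hz]
      exact (asIdeal_map_eq_ker hL ψ p₀).symm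
    · rw [← hFib_eq_rH' (X.residueField y) hL S k S' σ ψ jy hψ]
      exact (betti_eq_hFib E Pc hPc eP V P hP α p hα.1 hα.2 y jy hjy).symm
  obtain ⟨fl1, fl2⟩ := flat_quot_of_rH'_locConst S' h hh hpt
  have F1 : FlatMod.IsFlat ((Scheme.Modules.restrictFunctor k).obj (cokernel S.f)) :=
    flatMod_restrict_cokernel_of_flat_quot S.f k n₁ n₂ f'
      ((ShortComplex.π₁).mapIso σ) ((ShortComplex.π₂).mapIso σ) σ.hom.comm₁₂.symm fl1
  have F2 : FlatMod.IsFlat ((Scheme.Modules.restrictFunctor k).obj (cokernel S.g)) :=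
    flatMod_restrict_cokernel_of_flat_quot S.g k n₂ n₃ g'
      ((ShortComplex.π₂).mapIso σ) ((ShortComplex.π₃).mapIso σ) σ.hom.comm₂₃.symm fl2
  have A1 : ApproxFlat p ((DCoh.restrictD k).obj
      (DerivedCategory.Q.obj ((DCoh.restrictCx V).obj Pc))) :=
    approxFlat_restrict_of_flat P α hP hα k F1 F2
  have A2 : ApproxFlat p ((DCoh.restrictD k).obj ((DCoh.restrictD V.ι).obj E)) :=
    A1.of_iso ((DCoh.restrictD k).mapIso ε.symm)
  have A3 : ApproxFlat p ((DCoh.restrictD (k ≫ V.ι)).obj E) :=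
    A2.of_iso (restrictDCompObjIso k V.ι E).symm
  refine ⟨(k ≫ V.ι).opensRange, ?_, approxFlat_opensRange (k ≫ V.ι) A3⟩
  have hxU : (⟨x, hx⟩ : (V : Scheme.{u})) ∈ Set.range hU.fromSpec.base := by
    rw [hU.range_fromSpec]
    exact hzU
  obtain ⟨z₀, hz₀⟩ := hxU
  refine ⟨z₀, ?_⟩
  change V.ι.base (k.base z₀) = x
  rw [show k.base z₀ = (⟨x, hx⟩ : (V : Scheme.{u})) from hz₀]
  rfl

end Groth.Agent.Lib.Helper5.CBC
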