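import Mathlib
import Groth.Agent.Lib.Helper5.CBC.Assemble
import Groth.Agent.Lib.Helper5.Perf.PerfAmp
import Groth.Agent.Lib.Helper5.Stalk.FlatPull

/-!
# `M ↦ H^i(M ⊗^L F)` preserves monomorphisms when the cokernels of local approximations are
flat (helper5)
-/
set_option autoImplicit false
set_option linter.unusedSectionVars false
set_option linter.unusedVariables false
set_option linter.style.haveILetI false
universe u
open CategoryTheory CategoryTheory.Limits AlgebraicGeometry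
attribute [local instance] HasDerivedCategory.standard

namespace Groth.Agent.Lib.Helper5.CBC

open Groth.Agent.Lib.Helper5.PCApprox Groth.Agent.Lib.Helper5.KFlatSiteQ
  Groth.Agent.Lib.Helper5.FpFlat Groth.Agent.Lib.Helper5.PerfTri Groth.Agent.Lib.Helper5.LocNull
  Groth.Agent.Lib.Helper5.TensorSheaf Groth.Agent.Lib.Helper5.TensorSES
  Groth.Agent.Lib.Helper5.StalkAdj

variable {X : Scheme.{u}}

/-- being a monomorphism is local -/
theorem mono_local {A B : X.Modules} (ψ : A ⟶ B)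
    (h : ∀ x : X, ∃ W : X.Opens, x ∈ W ∧ Mono ((Scheme.Modules.restrictFunctor W.ι).map ψ)) :
    Mono ψ := by
  apply Preadditive.mono_of_isZero_kernel
  apply Groth.Agent.Lib.Helper5.PerfAmpl.isZero_of_local
  intro x
  obtain ⟨W, hxW, hW⟩ := h x
  refine ⟨W, hxW, ?_⟩
  haveI := hW
  exact IsZero.of_iso (isZero_kernel_of_mono ((Scheme.Modules.restrictFunctor W.ι).map ψ))
    (PreservesKernel.iso (Scheme.Modules.restrictFunctor W.ι) ψ)

/-- tensoring with a (stalkwise) flat module preserves monomorphisms -/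
theorem mono_tensor_of_flat {V : Scheme.{u}} (W : V.Modules) (hW : FlatMod.IsFlat W)
    {M' M : V.Modules} (f : M' ⟶ M) [Mono f] : Mono ((DCoh.tensorBi.map f).app W) := by
  have h1 : ModSite.IsFlat (O := V.sheaf) W :=
    Groth.Agent.Lib.Helper5.Misc.StalkFlatSch.isFlat_of_flatMod _ hW
  rw [isFlat_iff] at h1
  haveI := h1
  haveI hm : @Mono (ModSite.Mod V.sheaf) _ M' M f := ‹Mono f›
  exact ((ModSite.tensorBi V.sheaf).flip.obj W).map_mono f

/-- **preservation of monomorphisms** in degrees `p` and `p + 1` from local approximations with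
flat cokernels -/
theorem mono_TX_of_approxFlat (Pc : CochainComplex X.Modules ℤ) [DCoh.HasLTensorCx Pc] (p : ℤ)
    (h : ∀ x : X, ∃ W : X.Opens, x ∈ W ∧
      ApproxFlat p ((DCoh.restrictD W.ι).obj (DerivedCategory.Q.obj Pc)))
    (i : ℤ) (hi : i = p ∨ i = p + 1) {N' N : X.Modules} (f : N' ⟶ N) [Mono f] :
    Mono ((TX Pc i).map f) := by
  apply mono_local
  intro x
  obtain ⟨W, hxW, P, α₀, hP, hα₀, hf1, hf2⟩ := h x
  refine ⟨W, hxW, ?_⟩
  let FV : CochainComplex (W : Scheme.{u}).Modules ℤ := (ResJ.RJ W.ι).obj Pc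
  haveI : DCoh.HasLTensorCx FV := Groth.Agent.Lib.Helper5.LTenAll.hasLTensorCx FV
  rw [mono_TX_restrict_iff W.ι Pc i f]
  let ι : (DCoh.restrictD W.ι).obj (DerivedCategory.Q.obj Pc) ≅ DerivedCategory.Q.obj FV :=
    (Scheme.Modules.restrictFunctor W.ι).mapDerivedCategoryFactors.app Pc
  have hα : IsApprox (p - 1) (α₀ ≫ ι.hom) := hα₀.comp_iso ι
  have hPfl : ∀ n, ModSite.IsFlat (O := (W : Scheme.{u}).sheaf) (P.X n) := fun n =>
    Groth.Agent.Lib.Helper5.Misc.StalkFlatSch.isFlat_of_flatMod _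
      (Groth.Agent.Lib.Helper5.LTenDer.isFlat_of_isFinLocFree _ (hP.2 n))
  obtain ⟨a, b, hab⟩ := hP.1
  have hPb : ∀ i : ℤ, b < i → IsZero (P.X i) := fun i hi => hab i (Or.inr hi)
  haveI : Mono ((Scheme.Modules.restrictFunctor W.ι).map f) := inferInstance
  obtain ⟨i1, i2⟩ := mono_ltensor_iff' FV P hPfl b hPb p (α₀ ≫ ι.hom) hα
    ((Scheme.Modules.restrictFunctor W.ι).map f)
  rcases hi with rfl | rfl
  · exact i1.2 (mono_tensor_of_flat _ hf1 _)
  · exact i2.2 (mono_tensor_of_flat _ hf2 _)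

end Groth.Agent.Lib.Helper5.CBC
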