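import Mathlib
import Groth.Agent.Lib.Helper5.CBC.MonoLocal
import Groth.Agent.Lib.Helper5.ExactPQ.Main

/-!
# Exactness of `M ↦ H^p(M ⊗^L F)` on quasi-coherent modules from local approximations with flat
cokernels (helper5)
-/
set_option autoImplicit false
set_option linter.unusedSectionVars false
set_option linter.unusedVariables false
set_option linter.style.haveILetI false
universe u
open CategoryTheory CategoryTheory.Limits Pretriangulated AlgebraicGeometry
attribute [local instance] HasDerivedCategory.standard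

namespace Groth.Agent.Lib.Helper5.CBC

open Groth.Agent.Lib.Helper5.ProjF3 Groth.Agent.Lib.Helper5.RpushPerf
  Groth.Agent.Lib.Helper4.QCohAb1 Groth.Agent.Lib.Helper5.ExactPQ

variable {Y Z : Scheme.{u}}

/-- a weakly triangulated functor whose `j`-th cohomology preserves monomorphisms of
quasi-coherent modules is left exact in degree `j` on quasi-coherent modules -/
theorem preservesFiniteLimits_of_mono (Φ : DCoh.D Y ⥤ DCoh.D Z) (hΦ : WeakTri Φ) (j : ℤ)
    (hm : ∀ {N' N : Y.Modules} (f : N' ⟶ N), Mono f → N'.IsQuasicoherent → N.IsQuasicoherent →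
      Mono ((DerivedCategory.singleFunctor Y.Modules 0 ⋙ Φ ⋙
        DerivedCategory.homologyFunctor Z.Modules j).map f)) :
    PreservesFiniteLimits ((QCohCat.isQCoh Y).ι ⋙ DerivedCategory.singleFunctor Y.Modules 0 ⋙
      Φ ⋙ DerivedCategory.homologyFunctor Z.Modules j) := by
  letI : Abelian (QCohCat.isQCoh Y).FullSubcategory := inferInstanceAs (Abelian (QCoh Y))
  haveI : PreservesFiniteLimits (QCohCat.isQCoh Y).ι :=
    inferInstanceAs (PreservesFiniteLimits (qc Y).ι)
  haveI : PreservesFiniteColimits (QCohCat.isQCoh Y).ι :=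
    inferInstanceAs (PreservesFiniteColimits (qc Y).ι)
  haveI : (QCohCat.isQCoh Y).ι.Additive := inferInstanceAs (qc Y).ι.Additive
  haveI : Φ.Additive := additive_of_weakTri hΦ
  rw [Functor.preservesFiniteLimits_iff_forall_exact_map_and_mono]
  intro S hS
  have hS' : (S.map (QCohCat.isQCoh Y).ι).ShortExact := hS.map_of_exact _
  have hT := hS'.singleTriangle_distinguished
  obtain ⟨c, hc⟩ := hΦ _ hT
  refine ⟨DerivedCategory.HomologySequence.exact₂ _ hc j, ?_⟩
  haveI := hS'.mono_f
  exact hm ((QCohCat.isQCoh Y).ι.map S.f) hS'.mono_f S.X₁.2 S.X₂.2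

variable {X : Scheme.{u}}

/-- **exactness in degree `p`** from local approximations with flat cokernels -/
theorem exact_of_approxFlat (Pc : CochainComplex X.Modules ℤ) [DCoh.HasLTensorCx Pc] (p : ℤ)
    (h : ∀ x : X, ∃ W : X.Opens, x ∈ W ∧
      ApproxFlat p ((DCoh.restrictD W.ι).obj (DerivedCategory.Q.obj Pc))) :
    PreservesFiniteLimits ((QCohCat.isQCoh X).ι ⋙ TX Pc p) ∧
      PreservesFiniteColimits ((QCohCat.isQCoh X).ι ⋙ TX Pc p) := by
  have h1 : PreservesFiniteLimits ((QCohCat.isQCoh X).ι ⋙ TX Pc p) :=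
    preservesFiniteLimits_of_mono (DCoh.LTensorCx Pc) (weakTri_LTensorCx Pc) p
      (fun f hf _ _ => by
        haveI := hf
        exact mono_TX_of_approxFlat Pc p h p (Or.inl rfl) f)
  have h2 : PreservesFiniteLimits ((QCohCat.isQCoh X).ι ⋙ TX Pc (p + 1)) :=
    preservesFiniteLimits_of_mono (DCoh.LTensorCx Pc) (weakTri_LTensorCx Pc) (p + 1)
      (fun f hf _ _ => by
        haveI := hf
        exact mono_TX_of_approxFlat Pc p h (p + 1) (Or.inr rfl) f)
  exact ⟨h1, (preserves_iff_qcoh (DCoh.LTensorCx Pc) (weakTri_LTensorCx Pc) p).2 h2⟩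

end Groth.Agent.Lib.Helper5.CBC
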