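import Mathlib
import Groth.Prelude.Def_QCohCat
import Groth.Agent.Lib.Helper5.ProjF3.Main3
import Groth.Agent.Lib.Helper5.BC.LTenCongr
import Groth.Agent.Lib.Helper5.RHomQC.Main
import Groth.Agent.Lib.Helper5.KFlatSite2.TorAmpIff

/-!
# `M ↦ R^p f_*(Lf^* M ⊗^L F)` is `M ↦ H^p(M ⊗^L f_* I)` on quasi-coherent modules (helper5)
-/
set_option autoImplicit false
set_option linter.unusedSectionVars false
set_option linter.unusedVariables false
set_option linter.style.haveILetI false
universe u
open CategoryTheory CategoryTheory.Limits Pretriangulated AlgebraicGeometry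
attribute [local instance] HasDerivedCategory.standard

namespace Groth.Agent.Lib.Helper5.CBC

open Groth.Agent.Lib.Helper5.ProjF3 Groth.Agent.Lib.Helper5.ProjF2 Groth.Agent.Lib.Helper5.DerQ
  Groth.Agent.Lib.Helper5.QC

attribute [local instance] Groth.Agent.Lib.Helper5.BvdB.preservesFiniteLimits_extZero
attribute [local instance] Groth.Agent.Lib.Helper5.HomVanish.hasRpush'

variable {X Y : Scheme.{u}} (f : X ⟶ Y) [QuasiCompact f] [QuasiSeparated f] [DCoh.HasRpush f]
  [DCoh.HasLpull f] (I : CochainComplex X.Modules ℤ) [I.IsKInjective] [DCoh.HasLTensorCx I]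
  [DCoh.HasLTensorCx ((pushCx f).obj I)]

/-- the projection formula map is an isomorphism on objects with quasi-coherent cohomology -/
theorem isIso_tauY_app_of_isQCohD (hI : DCoh.IsQCohD (DerivedCategory.Q.obj I)) (L : DCoh.D Y)
    (hL : DCoh.IsQCohD L) : IsIso ((tauY f I).app L) := by
  obtain ⟨P, hP, -, ⟨e⟩⟩ := Groth.Agent.Lib.Helper5.Pure.exists_kflat_repr L
  have hPQ : DCoh.IsQCohD (DerivedCategory.Q.obj P) := isQCohD_of_iso e.symm hL
  haveI h1 := isIso_β₂_app f I P hP
  haveI h2 : IsIso ((Groth.Agent.Lib.Helper5.AssocD.ε ((pushCx f).obj I)).app P) :=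
    isIso_counit_app (Groth.Agent.Lib.Helper5.LTenAll.adaptedQ_tensorCxQ ((pushCx f).obj I))
      (DCoh.LTensorCx ((pushCx f).obj I)) _ P hP
  haveI h3 := isIso_rho_of_isQCoh f I hI P hP hPQ
  haveI h4 : IsIso ((rhoNat f I).app P) := by
    show IsIso (DerivedCategory.Q.map (braidCx P ((pushCx f).obj I)).hom ≫ rho f I P ≫
      (DCoh.Rpush f).map (DerivedCategory.Q.map (braidCx I ((pullCx f).obj P)).hom))
    infer_instance
  have h5 : IsIso ((tauY f I).app (DerivedCategory.Q.obj P)) := by
    have h := tauY_app f I P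
    have h6 : (tauY f I).app (DerivedCategory.Q.obj P) =
        ((Groth.Agent.Lib.Helper5.AssocD.ε ((pushCx f).obj I)).app P ≫ (rhoNat f I).app P) ≫
          inv ((β₂ f I).app P) := by
      rw [← h, Category.assoc, IsIso.hom_inv_id, Category.comp_id]
    rw [h6]
    infer_instance
  haveI := h5
  have hn := (tauY f I).naturality e.inv
  have h7 : (tauY f I).app L = (DCoh.LTensorCx ((pushCx f).obj I)).map e.inv ≫
      (tauY f I).app (DerivedCategory.Q.obj P) ≫ (L₂ f I).map e.hom := by
    rw [← Category.assoc, hn, Category.assoc, ← Functor.map_comp, Iso.inv_hom_id,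
      CategoryTheory.Functor.map_id, Category.comp_id]
  rw [h7]
  infer_instance

/-- the natural isomorphism on quasi-coherent modules -/
noncomputable def projTIso (hI : DCoh.IsQCohD (DerivedCategory.Q.obj I)) (p : ℤ) :
    (QCohCat.isQCoh Y).ι ⋙ DerivedCategory.singleFunctor Y.Modules 0 ⋙
        DCoh.LTensorCx ((pushCx f).obj I) ⋙ DerivedCategory.homologyFunctor Y.Modules p ≅
      (QCohCat.isQCoh Y).ι ⋙ DerivedCategory.singleFunctor Y.Modules 0 ⋙
        DCoh.Lpull f ⋙ DCoh.LTensorCx I ⋙ DCoh.Rpush f ⋙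
          DerivedCategory.homologyFunctor Y.Modules p :=
  NatIso.ofComponents (fun M =>
    haveI : M.obj.IsQuasicoherent := M.property
    haveI := isIso_tauY_app_of_isQCohD f I hI
      ((DerivedCategory.singleFunctor Y.Modules 0).obj M.obj)
      (Groth.Agent.Lib.Helper5.RHomQC.isQCohD_single M.obj 0)
    (DerivedCategory.homologyFunctor Y.Modules p).mapIso
      (asIso ((tauY f I).app ((DerivedCategory.singleFunctor Y.Modules 0).obj M.obj))))
    (fun {M M'} g => by
      have hn := (tauY f I).naturality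
        ((DerivedCategory.singleFunctor Y.Modules 0).map ((QCohCat.isQCoh Y).ι.map g))
      have h2 := congrArg (fun t => (DerivedCategory.homologyFunctor Y.Modules p).map t) hn
      simp only [Functor.map_comp] at h2
      exact h2)

end Groth.Agent.Lib.Helper5.CBC
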