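import Mathlib
import Groth.Prelude.Def_QCohCat

/-!
# Functors exact on quasi-coherent modules preserve monomorphisms between them (helper5)
-/
set_option autoImplicit false
set_option linter.unusedSectionVars false
set_option linter.unusedVariables false
set_option linter.style.haveILetI false
universe u
open CategoryTheory CategoryTheory.Limits AlgebraicGeometry

namespace Groth.Agent.Lib.Helper5.CBC

variable {X : Scheme.{u}} {D : Type*} [Category D]

theorem mono_map_qcoh (G : X.Modules ⥤ D)
    [PreservesFiniteLimits ((QCohCat.isQCoh X).ι ⋙ G)] {N' N : X.Modules} (f : N' ⟶ N)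
    (hf : Mono f) (h' : N'.IsQuasicoherent) (h : N.IsQuasicoherent) : Mono (G.map f) := by
  let f' : (⟨N', h'⟩ : (QCohCat.isQCoh X).FullSubcategory) ⟶ ⟨N, h⟩ := ObjectProperty.homMk f
  haveI : Mono f' := (QCohCat.isQCoh X).ι.mono_of_mono_map
    (show Mono ((QCohCat.isQCoh X).ι.map f') from hf)
  exact (inferInstance : Mono (((QCohCat.isQCoh X).ι ⋙ G).map f'))

end Groth.Agent.Lib.Helper5.CBC
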